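/-
Project SGJ4, part Order.  Data: trees of conjugators for the three classes of involutions of
M22 : 2 (letters: positions in `xG`) and the table of a hash function.
-/
import Cfsg.Agent.H7.J4Bits

set_option autoImplicit false

namespace Cfsg.Agent.H7.J4

def tA : Tr :=
  (.c 0 (.c 1 (.c 0 (.c 2 (.c 0 (.c 0 (.c 0 .n (.c 1 (.c 2 (.c 1 .n .n) (.c 3 .n .n)) (.c 2 (.c 1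
  .n (.c 2 .n .n)) (.c 3 .n .n)))) (.c 1 (.c 0 (.c 2 (.c 3 .n .n) (.c 3 .n .n)) (.c 1 (.c 1 .n (.c
  2 (.c 0 .n .n) .n)) (.c 2 (.c 1 .n (.c 3 .n .n)) (.c 3 .n .n)))) (.c 2 (.c 0 (.c 0 (.c 1 .n (.c
  2 .n .n)) (.c 3 .n .n)) (.c 1 (.c 0 .n .n) (.c 3 (.c 0 .n .n) .n))) (.c 3 .n .n)))) (.c 1 (.c 0
  (.c 1 (.c 0 .n (.c 1 .n (.c 2 .n .n))) .n) (.c 2 .n .n)) (.c 2 (.c 0 (.c 0 (.c 1 .n .n) (.c 1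
  (.c 1 .n (.c 2 .n .n)) (.c 2 (.c 0 .n (.c 1 .n (.c 3 .n .n))) (.c 3 .n .n)))) (.c 1 (.c 0 (.c 0
  .n (.c 2 (.c 0 .n .n) .n)) .n) .n)) .n))) .n) (.c 1 (.c 0 (.c 1 (.c 1 .n (.c 2 (.c 0 (.c 0 .n
  .n) (.c 2 .n .n)) .n)) (.c 2 (.c 0 (.c 1 (.c 0 .n (.c 1 .n (.c 2 .n (.c 3 .n .n)))) (.c 3 .n
  .n)) (.c 1 (.c 0 (.c 1 (.c 3 .n .n) (.c 3 .n .n)) .n) (.c 2 (.c 2 (.c 0 .n .n) .n) .n))) .n))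
  .n) (.c 2 (.c 0 (.c 0 (.c 2 (.c 2 (.c 0 .n .n) .n) .n) (.c 1 (.c 2 (.c 0 .n .n) .n) (.c 2 (.c 0
  (.c 0 (.c 1 .n .n) (.c 1 (.c 0 .n (.c 3 .n .n)) (.c 2 (.c 2 .n .n) (.c 3 .n .n)))) (.c 2 (.c 0
  (.c 3 .n .n) (.c 2 (.c 0 (.c 0 .n .n) .n) .n)) .n)) (.c 3 .n .n)))) (.c 1 (.c 0 (.c 0 .n .n) .n)
  .n)) .n))) .n) (.c 1 (.c 0 (.c 0 (.c 1 (.c 2 (.c 0 (.c 0 (.c 2 .n .n) (.c 1 (.c 1 .n .n) (.c 2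
  .n (.c 3 .n .n)))) (.c 1 (.c 0 (.c 1 .n .n) .n) (.c 2 (.c 0 .n .n) .n))) .n) (.c 2 (.c 0 (.c 0
  (.c 1 .n (.c 2 .n (.c 3 .n .n))) (.c 1 (.c 0 .n (.c 1 (.c 2 .n .n) (.c 2 .n (.c 3 .n .n)))) (.c
  2 (.c 0 (.c 1 .n (.c 3 .n .n)) (.c 1 (.c 0 .n (.c 3 .n .n)) (.c 3 (.c 0 .n .n) .n))) (.c 3 .n
  .n)))) (.c 1 (.c 0 (.c 0 .n (.c 1 (.c 0 .n (.c 1 .n (.c 2 .n (.c 3 .n .n)))) (.c 2 (.c 0 .n (.c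
  1 .n .n)) (.c 3 .n .n)))) (.c 2 (.c 0 (.c 0 .n (.c 3 .n .n)) .n) .n)) (.c 2 (.c 0 (.c 0 (.c 1 .n
  .n) (.c 2 (.c 0 .n (.c 1 .n (.c 3 .n .n))) (.c 3 .n .n))) (.c 1 (.c 0 .n .n) .n)) .n))) .n)) (.c
  1 (.c 0 (.c 2 (.c 0 (.c 0 .n (.c 1 .n (.c 3 .n .n))) (.c 2 (.c 0 .n (.c 2 .n .n)) .n)) .n) (.c 1
  (.c 2 (.c 0 (.c 0 .n (.c 2 .n (.c 3 .n .n))) (.c 2 (.c 0 (.c 0 .n (.c 2 .n .n)) .n) .n)) .n) (.c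
  2 (.c 0 (.c 0 (.c 2 (.c 2 .n .n) .n) (.c 1 (.c 0 .n (.c 2 .n .n)) (.c 3 .n .n))) (.c 2 (.c 2 (.c
  0 (.c 1 (.c 0 .n (.c 3 .n .n)) (.c 2 (.c 3 .n .n) (.c 3 .n .n))) .n) .n) .n)) .n))) (.c 2 (.c 0
  (.c 0 (.c 0 (.c 0 (.c 2 .n .n) (.c 1 .n (.c 2 .n (.c 3 .n .n)))) (.c 1 (.c 0 .n .n) (.c 2 (.c 0
  .n .n) (.c 3 .n .n)))) (.c 1 (.c 0 (.c 2 .n .n) (.c 1 (.c 1 .n (.c 2 .n .n)) (.c 2 (.c 1 .n .n)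
  (.c 3 .n .n)))) (.c 2 (.c 0 (.c 1 (.c 0 .n (.c 1 .n .n)) .n) (.c 1 (.c 0 .n (.c 3 .n .n)) (.c 2
  (.c 1 .n .n) (.c 3 .n .n)))) (.c 3 .n .n)))) (.c 1 (.c 0 (.c 1 (.c 1 (.c 1 .n (.c 2 .n .n)) (.c
  2 .n .n)) (.c 2 (.c 0 (.c 0 .n .n) (.c 1 .n .n)) .n)) (.c 2 (.c 0 (.c 2 (.c 3 .n .n) (.c 3 .n
  .n)) (.c 2 (.c 0 (.c 1 (.c 2 .n .n) (.c 2 (.c 1 .n .n) .n)) (.c 3 .n .n)) (.c 3 (.c 0 .n .n)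
  .n))) (.c 3 .n .n))) (.c 2 (.c 0 (.c 1 (.c 1 .n .n) (.c 2 (.c 1 .n (.c 2 (.c 0 .n .n) .n)) .n))
  (.c 1 (.c 0 (.c 0 .n (.c 2 (.c 0 .n (.c 3 .n .n)) (.c 3 .n .n))) (.c 2 (.c 0 (.c 2 .n .n) (.c 3
  .n .n)) (.c 3 (.c 0 .n .n) .n))) (.c 2 (.c 0 (.c 0 .n (.c 1 (.c 0 (.c 0 .n .n) .n) (.c 2 .n (.c
  3 .n .n)))) (.c 1 (.c 0 (.c 0 (.c 1 .n .n) (.c 1 .n .n)) (.c 3 .n .n)) (.c 3 (.c 0 (.c 0 .n .n)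
  .n) .n))) (.c 3 .n .n)))) (.c 3 (.c 0 (.c 1 (.c 2 .n .n) (.c 2 (.c 0 (.c 3 .n .n) (.c 2 (.c 1 .n
  .n) .n)) .n)) .n) .n)))) (.c 3 .n .n)))) (.c 1 (.c 0 (.c 0 (.c 2 (.c 0 (.c 0 (.c 1 .n .n) (.c 2
  .n .n)) (.c 2 (.c 0 (.c 2 .n .n) (.c 2 (.c 0 (.c 3 .n .n) .n) .n)) .n)) .n) (.c 1 (.c 1 .n (.c 2
  (.c 0 (.c 0 .n (.c 2 .n (.c 3 .n .n))) (.c 2 .n .n)) .n)) (.c 2 (.c 0 (.c 0 (.c 1 .n (.c 2 .n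
  .n)) (.c 1 (.c 0 .n (.c 1 (.c 2 .n .n) (.c 2 (.c 3 .n .n) (.c 3 .n .n)))) (.c 2 (.c 0 (.c 0 (.c
  2 .n (.c 3 .n .n)) (.c 2 (.c 1 .n .n) .n)) (.c 2 (.c 1 .n (.c 2 .n (.c 3 .n .n))) (.c 3 (.c 0 .n
  .n) .n))) (.c 3 .n .n)))) (.c 1 (.c 0 (.c 0 (.c 1 .n .n) (.c 2 .n (.c 3 .n .n))) .n) (.c 2 (.c 2
  .n .n) .n))) .n))) (.c 1 (.c 0 (.c 0 (.c 2 (.c 0 (.c 0 .n (.c 1 .n (.c 3 .n .n))) (.c 2 (.c 2 .n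
  .n) .n)) .n) (.c 1 .n (.c 2 (.c 2 .n .n) .n))) (.c 1 (.c 0 .n (.c 3 .n .n)) (.c 3 .n .n))) (.c 2
  (.c 0 (.c 0 (.c 1 (.c 0 (.c 2 .n .n) (.c 2 .n (.c 3 .n .n))) (.c 2 .n (.c 3 .n .n))) (.c 2 (.c 1
  (.c 0 .n (.c 2 (.c 2 .n .n) .n)) (.c 2 (.c 1 (.c 2 .n .n) .n) .n)) (.c 3 .n .n))) (.c 3 (.c 0
  (.c 0 .n (.c 2 (.c 1 (.c 0 .n .n) .n) (.c 3 .n .n))) .n) .n)) (.c 3 (.c 0 (.c 2 (.c 0 (.c 0 (.c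
  0 (.c 0 .n .n) (.c 1 .n .n)) (.c 1 (.c 0 .n (.c 1 .n (.c 3 .n .n))) (.c 3 .n .n))) (.c 1 (.c 0
  (.c 0 (.c 2 .n .n) (.c 1 .n (.c 2 .n (.c 3 .n .n)))) .n) (.c 2 (.c 0 .n (.c 2 .n .n)) .n))) .n)
  .n) .n)))) (.c 2 (.c 0 (.c 0 (.c 1 (.c 0 (.c 2 .n .n) (.c 1 (.c 2 (.c 0 .n .n) (.c 3 .n .n)) (.c
  2 (.c 2 .n .n) (.c 3 .n .n)))) (.c 2 (.c 0 (.c 0 (.c 2 .n (.c 3 .n .n)) (.c 1 (.c 1 .n (.c 2 (.c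
  1 .n .n) .n)) (.c 2 (.c 0 .n .n) (.c 3 .n .n)))) (.c 2 (.c 1 (.c 2 .n .n) (.c 2 (.c 0 .n (.c 1
  .n .n)) .n)) (.c 3 .n .n))) (.c 3 .n .n))) (.c 1 (.c 0 (.c 2 .n (.c 3 .n .n)) (.c 1 (.c 1 .n .n)
  (.c 3 (.c 0 .n .n) .n))) (.c 3 .n .n))) (.c 1 (.c 0 (.c 0 (.c 1 (.c 2 (.c 2 .n .n) .n) (.c 2 (.c
  2 .n .n) .n)) (.c 1 (.c 0 (.c 3 .n .n) (.c 2 (.c 2 (.c 2 .n .n) (.c 3 .n .n)) (.c 3 .n .n))) (.c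
  2 (.c 1 (.c 0 .n (.c 2 (.c 2 (.c 0 .n .n) .n) .n)) (.c 2 (.c 0 .n (.c 1 (.c 0 .n (.c 2 .n (.c 3
  .n .n))) (.c 2 (.c 1 .n .n) (.c 3 .n .n)))) (.c 3 (.c 0 .n .n) .n))) (.c 3 .n .n)))) (.c 3 (.c 0
  (.c 0 (.c 2 .n .n) (.c 1 (.c 2 .n .n) (.c 2 (.c 0 (.c 0 .n (.c 3 .n .n)) .n) (.c 3 .n .n)))) .n)
  .n)) (.c 3 (.c 0 (.c 0 (.c 1 .n (.c 2 (.c 2 .n .n) .n)) (.c 1 (.c 0 (.c 2 (.c 0 .n .n) .n) (.c 2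
  (.c 3 (.c 0 .n .n) .n) (.c 3 .n .n))) (.c 2 (.c 0 (.c 0 (.c 0 .n (.c 1 .n .n)) (.c 1 (.c 1 .n
  (.c 2 (.c 1 .n .n) (.c 3 .n .n))) (.c 2 (.c 1 .n (.c 2 (.c 1 .n .n) .n)) (.c 3 .n .n)))) (.c 1
  (.c 0 (.c 1 .n (.c 2 .n .n)) .n) (.c 2 (.c 0 (.c 2 .n .n) (.c 1 .n (.c 3 (.c 0 .n .n) .n))) (.c
  3 (.c 0 (.c 3 .n .n) .n) .n)))) (.c 3 .n .n)))) .n) .n))) (.c 3 (.c 0 (.c 0 (.c 2 (.c 0 (.c 0 .n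
  (.c 2 (.c 0 .n (.c 1 .n (.c 3 .n .n))) (.c 3 .n .n))) (.c 2 (.c 2 (.c 0 .n .n) .n) .n)) .n) (.c
  2 (.c 0 (.c 0 (.c 0 .n (.c 1 (.c 0 .n (.c 1 .n (.c 2 .n (.c 3 .n .n)))) (.c 2 (.c 1 .n (.c 3 .n
  .n)) (.c 3 .n .n)))) (.c 1 (.c 0 (.c 2 .n (.c 3 .n .n)) (.c 1 .n (.c 2 .n (.c 3 (.c 0 (.c 1 .n
  .n) .n) .n)))) (.c 2 (.c 0 .n (.c 1 (.c 2 .n .n) (.c 3 .n .n))) (.c 3 .n .n)))) (.c 1 (.c 0 (.c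
  0 (.c 1 .n .n) (.c 2 (.c 1 .n (.c 2 .n (.c 3 .n .n))) (.c 3 .n .n))) (.c 2 (.c 2 .n .n) (.c 3
  (.c 0 .n .n) .n))) (.c 2 (.c 0 (.c 2 (.c 1 .n .n) .n) (.c 2 (.c 0 .n (.c 1 .n (.c 3 .n .n))) (.c
  3 .n .n))) (.c 3 (.c 0 .n .n) .n)))) (.c 3 .n .n))) .n) .n)))) (.c 2 (.c 0 (.c 0 (.c 0 (.c 0 (.c
  2 (.c 3 (.c 0 .n .n) .n) (.c 3 .n .n)) (.c 1 (.c 1 .n .n) (.c 2 (.c 2 (.c 2 .n .n) .n) (.c 3 .n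
  .n)))) (.c 1 (.c 0 (.c 2 (.c 0 (.c 0 .n (.c 1 .n (.c 2 .n (.c 3 .n .n)))) .n) .n) (.c 1 (.c 0
  (.c 2 .n .n) (.c 2 (.c 0 (.c 0 .n (.c 3 .n .n)) (.c 3 (.c 0 (.c 0 .n .n) .n) .n)) (.c 3 .n .n)))
  (.c 2 (.c 0 (.c 0 (.c 1 .n .n) (.c 1 (.c 2 .n (.c 3 .n .n)) (.c 3 .n .n))) (.c 1 (.c 0 (.c 1 .n
  (.c 2 .n .n)) .n) (.c 3 .n .n))) (.c 3 .n .n)))) (.c 2 (.c 0 (.c 1 (.c 2 .n .n) (.c 2 (.c 0 (.c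
  1 .n .n) (.c 1 .n .n)) .n)) (.c 1 (.c 0 (.c 0 .n (.c 2 (.c 3 .n .n) (.c 3 .n .n))) .n) (.c 2 .n
  (.c 3 (.c 0 (.c 0 (.c 0 .n (.c 3 .n .n)) (.c 1 .n (.c 2 (.c 0 .n (.c 3 .n .n)) (.c 3 .n .n))))
  .n) .n)))) (.c 3 .n .n)))) (.c 1 (.c 0 (.c 0 .n (.c 2 .n (.c 3 .n .n))) (.c 1 (.c 1 .n (.c 2 (.c
  0 (.c 2 .n .n) (.c 2 (.c 0 (.c 2 .n .n) .n) .n)) .n)) (.c 2 (.c 0 (.c 0 (.c 1 (.c 1 .n .n) (.c 2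
  .n (.c 3 .n .n))) (.c 1 (.c 0 (.c 2 .n .n) (.c 2 .n .n)) (.c 2 (.c 0 .n (.c 1 .n (.c 2 (.c 3 .n
  .n) (.c 3 .n .n)))) (.c 3 .n .n)))) (.c 1 (.c 0 (.c 2 (.c 0 .n (.c 1 (.c 2 .n .n) (.c 3 .n .n)))
  (.c 3 .n .n)) (.c 3 (.c 0 .n .n) .n)) (.c 2 (.c 0 (.c 2 .n .n) (.c 2 (.c 0 (.c 0 .n (.c 2 .n (.c
  3 .n .n))) (.c 3 .n .n)) (.c 3 .n .n))) (.c 3 .n .n)))) (.c 3 (.c 0 (.c 1 .n (.c 2 (.c 0 .n (.c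
  2 (.c 0 .n (.c 2 .n .n)) .n)) .n)) .n) .n)))) (.c 2 (.c 0 (.c 0 (.c 0 (.c 0 .n (.c 2 (.c 2 .n
  .n) .n)) (.c 1 (.c 1 .n .n) (.c 3 .n .n))) (.c 1 (.c 0 (.c 0 .n (.c 2 (.c 3 .n .n) (.c 3 .n
  .n))) (.c 2 (.c 0 (.c 3 .n .n) (.c 1 (.c 0 .n .n) (.c 3 (.c 0 .n .n) .n))) (.c 3 .n .n))) (.c 2
  (.c 0 (.c 0 .n (.c 2 (.c 2 .n .n) (.c 3 .n .n))) (.c 1 (.c 0 (.c 1 .n .n) .n) (.c 2 .n (.c 3 (.c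
  0 .n .n) .n)))) (.c 3 .n .n)))) (.c 1 (.c 0 (.c 1 (.c 0 (.c 3 .n .n) (.c 3 .n .n)) (.c 2 (.c 0
  (.c 1 .n (.c 2 .n (.c 3 .n .n))) (.c 1 (.c 0 .n (.c 3 .n .n)) (.c 2 (.c 1 .n .n) (.c 3 .n .n))))
  (.c 3 .n .n))) (.c 2 (.c 0 (.c 0 (.c 1 .n .n) .n) (.c 2 (.c 3 .n .n) (.c 3 (.c 0 .n .n) .n)))
  (.c 3 (.c 0 (.c 0 .n .n) .n) .n))) (.c 2 (.c 0 (.c 1 (.c 1 (.c 1 .n .n) (.c 2 .n .n)) .n) (.c 1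
  (.c 0 (.c 0 .n (.c 1 .n (.c 2 .n (.c 3 .n .n)))) (.c 2 (.c 0 (.c 1 .n .n) (.c 3 .n .n)) (.c 3
  (.c 0 (.c 2 .n .n) .n) .n))) (.c 2 (.c 0 .n (.c 1 (.c 0 (.c 1 .n .n) (.c 3 .n .n)) (.c 3 (.c 0
  (.c 0 .n (.c 2 .n (.c 3 .n .n))) .n) .n))) (.c 3 .n .n)))) (.c 3 (.c 0 (.c 0 (.c 1 .n .n) (.c 1
  (.c 2 .n .n) (.c 2 .n (.c 3 .n .n)))) .n) .n)))) (.c 3 .n .n)))) (.c 1 (.c 0 (.c 0 (.c 1 (.c 2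
  (.c 0 .n (.c 1 .n .n)) .n) (.c 2 (.c 0 (.c 1 (.c 0 .n .n) (.c 2 .n (.c 3 .n .n))) (.c 2 (.c 0 .n
  (.c 2 .n .n)) .n)) .n)) (.c 1 (.c 0 (.c 2 (.c 3 .n .n) (.c 3 .n .n)) (.c 1 (.c 1 .n (.c 2 (.c 0
  .n .n) .n)) (.c 2 (.c 0 (.c 0 (.c 3 .n .n) (.c 2 .n .n)) (.c 3 (.c 0 .n .n) .n)) (.c 3 .n .n))))
  (.c 2 (.c 0 (.c 0 (.c 0 .n (.c 1 (.c 3 .n .n) (.c 2 (.c 0 .n (.c 3 .n .n)) (.c 3 .n .n)))) (.c 1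
  (.c 1 .n (.c 2 .n (.c 3 .n .n))) (.c 2 (.c 0 .n (.c 1 .n .n)) (.c 3 .n .n)))) (.c 1 (.c 0 (.c 1
  .n .n) (.c 3 (.c 0 (.c 0 .n (.c 2 .n .n)) .n) .n)) (.c 3 (.c 0 (.c 1 .n (.c 3 .n .n)) .n) .n)))
  (.c 3 .n .n)))) (.c 3 (.c 0 (.c 0 (.c 1 .n (.c 2 (.c 2 .n .n) .n)) (.c 1 (.c 2 (.c 0 (.c 0 .n
  (.c 3 .n .n)) (.c 1 .n .n)) .n) (.c 2 (.c 1 (.c 0 .n (.c 2 .n .n)) (.c 2 (.c 0 .n .n) (.c 3 (.c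
  0 (.c 1 .n (.c 2 .n .n)) .n) .n))) (.c 3 .n .n)))) .n) .n)) (.c 3 (.c 0 (.c 0 (.c 0 (.c 0 .n (.c
  2 .n (.c 3 .n .n))) (.c 1 (.c 2 (.c 2 (.c 2 .n .n) .n) .n) (.c 2 (.c 0 (.c 1 .n .n) (.c 2 (.c 1
  .n (.c 3 .n .n)) (.c 3 .n .n))) (.c 3 .n .n)))) (.c 1 (.c 0 (.c 2 (.c 0 .n .n) .n) (.c 2 (.c 0
  (.c 0 .n (.c 1 .n (.c 2 (.c 3 .n .n) (.c 3 .n .n)))) (.c 1 (.c 0 .n .n) (.c 2 (.c 0 (.c 3 .n .n)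
  (.c 2 .n .n)) (.c 3 (.c 0 (.c 0 .n (.c 1 .n (.c 3 .n .n))) .n) .n)))) (.c 3 .n .n))) (.c 2 (.c 0
  (.c 0 (.c 1 .n (.c 2 .n .n)) (.c 1 (.c 0 .n (.c 1 .n (.c 2 .n .n))) (.c 2 (.c 0 (.c 0 .n .n) .n)
  .n))) (.c 1 (.c 0 (.c 0 .n (.c 1 (.c 1 .n .n) (.c 3 .n .n))) (.c 2 (.c 0 .n (.c 2 .n .n)) .n))
  (.c 2 (.c 1 (.c 0 .n (.c 2 .n (.c 3 .n .n))) (.c 2 .n (.c 3 (.c 0 (.c 2 .n .n) .n) .n))) (.c 3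
  (.c 0 (.c 0 .n (.c 2 .n (.c 3 .n .n))) .n) .n)))) (.c 3 .n .n)))) .n) .n))) (.c 3 (.c 0 (.c 0
  (.c 0 (.c 0 (.c 0 .n .n) (.c 3 .n .n)) (.c 2 (.c 0 (.c 1 (.c 0 .n .n) (.c 2 (.c 0 (.c 0 .n (.c 3
  .n .n)) (.c 2 .n .n)) .n)) (.c 3 (.c 0 .n .n) .n)) (.c 3 .n .n))) (.c 1 (.c 1 (.c 2 (.c 0 .n (.c
  2 .n .n)) .n) (.c 2 (.c 0 (.c 1 (.c 2 .n .n) (.c 2 (.c 0 (.c 0 .n .n) (.c 1 (.c 2 .n .n) (.c 2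
  (.c 1 .n .n) .n))) .n)) (.c 1 (.c 0 (.c 0 (.c 2 .n .n) (.c 2 .n (.c 3 .n .n))) .n) (.c 2 (.c 0
  (.c 1 .n .n) (.c 2 .n .n)) .n))) .n)) (.c 2 (.c 0 (.c 0 (.c 0 .n (.c 1 .n (.c 3 .n .n))) (.c 1
  (.c 0 (.c 2 .n .n) (.c 1 (.c 2 .n .n) (.c 2 .n .n))) (.c 2 (.c 0 (.c 0 (.c 2 .n (.c 3 .n .n))
  .n) (.c 3 .n .n)) (.c 3 .n .n)))) (.c 1 (.c 2 (.c 2 (.c 0 (.c 1 .n (.c 2 .n .n)) .n) .n) .n) (.c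
  2 (.c 0 (.c 0 (.c 2 .n (.c 3 .n .n)) (.c 1 (.c 2 .n .n) (.c 2 (.c 0 .n (.c 2 .n (.c 3 .n .n)))
  (.c 3 .n .n)))) (.c 1 (.c 0 .n (.c 2 (.c 0 (.c 1 .n .n) (.c 3 .n .n)) (.c 3 (.c 0 .n .n) .n)))
  (.c 2 (.c 0 (.c 0 (.c 3 .n .n) .n) (.c 1 (.c 0 .n .n) (.c 3 (.c 0 .n .n) .n))) (.c 3 .n .n))))
  (.c 3 .n .n)))) (.c 3 .n .n)))) .n) .n))))

def tB : Tr :=
  (.c 0 (.c 0 (.c 0 (.c 0 (.c 0 (.c 0 .n (.c 3 .n .n)) (.c 2 (.c 3 (.c 0 .n .n) .n) (.c 3 .n .n)))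
  (.c 1 (.c 1 (.c 2 .n .n) (.c 2 (.c 1 .n .n) .n)) (.c 2 (.c 1 (.c 0 .n (.c 3 .n .n)) (.c 2 (.c 0
  .n (.c 3 .n .n)) (.c 3 .n .n))) (.c 3 .n .n)))) (.c 1 (.c 0 .n (.c 1 (.c 0 (.c 2 .n .n) (.c 1 .n
  (.c 2 (.c 3 .n .n) (.c 3 .n .n)))) (.c 2 (.c 0 (.c 0 .n (.c 2 .n (.c 3 .n .n))) (.c 1 .n (.c 3
  .n .n))) (.c 3 .n .n)))) (.c 2 (.c 1 (.c 0 (.c 1 .n .n) (.c 3 .n .n)) (.c 2 (.c 3 .n .n) (.c 3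
  (.c 0 (.c 2 .n .n) .n) .n))) (.c 3 .n .n)))) (.c 1 (.c 0 (.c 0 (.c 2 (.c 1 .n (.c 2 .n .n)) .n)
  (.c 2 (.c 0 (.c 3 .n .n) (.c 3 .n .n)) (.c 3 .n .n))) (.c 1 (.c 0 (.c 1 (.c 2 .n .n) (.c 2 (.c 0
  .n (.c 1 .n .n)) .n)) (.c 1 (.c 0 .n (.c 1 (.c 3 .n .n) (.c 3 (.c 0 .n .n) .n))) (.c 2 (.c 0 .n
  (.c 2 .n (.c 3 .n .n))) (.c 3 .n .n)))) (.c 2 (.c 0 (.c 0 .n (.c 1 (.c 2 (.c 0 .n .n) .n) (.c 2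
  (.c 0 .n (.c 1 .n (.c 3 .n .n))) (.c 3 .n .n)))) (.c 1 (.c 0 (.c 2 (.c 0 .n .n) .n) (.c 3 .n
  .n)) (.c 3 .n .n))) (.c 3 (.c 0 (.c 1 .n (.c 2 .n .n)) .n) .n)))) (.c 2 (.c 0 (.c 0 (.c 0 (.c 0
  .n (.c 3 .n .n)) (.c 1 (.c 2 .n (.c 3 .n .n)) (.c 2 (.c 1 .n (.c 3 .n .n)) (.c 3 .n .n)))) (.c 2
  (.c 0 (.c 0 (.c 2 .n .n) (.c 3 .n .n)) (.c 1 (.c 2 (.c 0 .n .n) .n) (.c 3 (.c 0 .n .n) .n))) (.c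
  3 .n .n))) (.c 1 (.c 2 (.c 2 .n .n) .n) (.c 3 (.c 0 (.c 0 (.c 1 (.c 2 .n .n) (.c 2 .n .n)) (.c 1
  .n (.c 2 .n .n))) .n) .n))) (.c 3 .n .n)))) (.c 1 (.c 0 (.c 0 (.c 1 (.c 1 .n .n) (.c 2 (.c 0 (.c
  2 .n (.c 3 .n .n)) .n) .n)) (.c 1 (.c 0 (.c 2 (.c 0 .n (.c 3 .n .n)) (.c 3 .n .n)) (.c 2 (.c 0
  (.c 0 .n .n) (.c 3 (.c 0 (.c 1 .n .n) .n) .n)) (.c 3 .n .n))) (.c 2 (.c 0 (.c 0 (.c 2 .n (.c 3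
  .n .n)) (.c 1 (.c 0 .n (.c 3 .n .n)) (.c 3 .n .n))) (.c 1 (.c 0 (.c 1 (.c 1 .n (.c 2 .n .n)) (.c
  2 .n .n)) (.c 3 .n .n)) (.c 3 .n .n))) (.c 3 .n .n)))) (.c 1 (.c 0 (.c 0 .n (.c 1 (.c 0 .n (.c 3
  .n .n)) (.c 3 .n .n))) (.c 1 (.c 0 (.c 0 (.c 2 .n .n) (.c 1 .n (.c 2 .n (.c 3 .n .n)))) (.c 1
  (.c 3 .n .n) (.c 3 (.c 0 .n .n) .n))) (.c 2 (.c 0 (.c 0 .n (.c 2 .n (.c 3 .n .n))) (.c 3 (.c 0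
  (.c 2 .n .n) .n) .n)) (.c 3 (.c 0 .n .n) .n)))) (.c 2 (.c 0 (.c 0 (.c 1 .n (.c 2 (.c 2 .n .n)
  (.c 3 .n .n))) (.c 1 .n (.c 3 .n .n))) (.c 1 (.c 0 (.c 0 (.c 2 .n .n) (.c 1 (.c 0 .n (.c 2 .n
  .n)) .n)) (.c 3 .n .n)) (.c 3 .n .n))) (.c 3 (.c 0 (.c 0 (.c 1 (.c 2 .n .n) (.c 2 (.c 1 .n .n)
  .n)) (.c 1 (.c 1 (.c 1 .n (.c 2 .n .n)) (.c 2 .n .n)) (.c 2 (.c 0 (.c 0 .n .n) (.c 1 (.c 0 .n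
  (.c 3 .n .n)) (.c 2 (.c 2 .n .n) (.c 3 .n .n)))) (.c 3 .n .n)))) .n) .n)))) (.c 2 (.c 0 (.c 0
  (.c 0 (.c 0 .n (.c 3 .n .n)) (.c 2 (.c 1 .n (.c 2 .n .n)) .n)) (.c 1 (.c 0 .n (.c 1 (.c 1 .n .n)
  (.c 2 (.c 3 .n .n) (.c 3 (.c 0 (.c 2 .n .n) .n) .n)))) (.c 2 (.c 0 (.c 1 (.c 2 .n .n) (.c 2 .n
  .n)) (.c 1 (.c 0 (.c 2 .n .n) (.c 3 .n .n)) (.c 2 (.c 2 .n .n) (.c 3 .n .n)))) (.c 3 .n .n))))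
  (.c 1 (.c 0 (.c 0 (.c 2 .n .n) (.c 1 (.c 0 (.c 2 .n .n) (.c 1 .n (.c 3 .n .n))) (.c 2 (.c 2 .n
  .n) (.c 3 .n .n)))) (.c 3 (.c 0 (.c 1 .n (.c 2 .n .n)) .n) .n)) (.c 3 (.c 0 (.c 0 (.c 0 .n (.c 2
  .n (.c 3 .n .n))) (.c 1 (.c 2 (.c 0 .n .n) .n) (.c 2 (.c 0 (.c 0 .n .n) (.c 1 .n .n)) .n))) .n)
  .n))) (.c 3 (.c 0 (.c 0 (.c 1 (.c 2 .n .n) (.c 2 (.c 0 .n (.c 1 .n (.c 3 .n .n))) (.c 3 .n .n)))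
  (.c 1 (.c 0 .n (.c 1 (.c 1 .n .n) (.c 2 (.c 0 .n .n) (.c 3 .n .n)))) (.c 2 (.c 0 .n (.c 1 (.c 2
  .n .n) .n)) (.c 3 .n .n)))) .n) .n))))

def tC : Tr :=
  (.c 0 (.c 0 (.c 0 (.c 0 (.c 0 (.c 0 .n (.c 3 .n .n)) (.c 2 (.c 0 (.c 1 (.c 0 .n (.c 2 .n .n))
  (.c 2 (.c 1 .n .n) .n)) (.c 3 (.c 0 (.c 0 (.c 2 .n .n) (.c 1 (.c 2 .n .n) (.c 3 .n .n))) .n)
  .n)) (.c 3 .n .n))) (.c 1 (.c 1 (.c 2 (.c 0 (.c 2 (.c 0 .n .n) .n) .n) .n) (.c 2 (.c 0 (.c 0 (.c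
  1 .n (.c 3 .n .n)) (.c 1 (.c 0 .n (.c 1 .n (.c 3 .n .n))) (.c 2 (.c 2 .n .n) (.c 3 .n .n)))) (.c
  1 (.c 0 (.c 3 .n .n) .n) (.c 2 .n .n))) .n)) (.c 2 (.c 0 (.c 0 (.c 0 (.c 0 .n (.c 1 (.c 2 .n .n)
  (.c 3 .n .n))) (.c 1 (.c 1 (.c 3 .n .n) (.c 2 (.c 2 .n .n) (.c 3 .n .n))) (.c 3 .n .n))) (.c 1
  (.c 0 (.c 3 .n .n) (.c 1 (.c 2 .n .n) (.c 2 .n (.c 3 (.c 0 .n .n) .n)))) (.c 2 (.c 0 (.c 1 .n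
  .n) (.c 1 .n (.c 2 (.c 0 .n (.c 3 .n .n)) (.c 3 .n .n)))) (.c 3 .n .n)))) (.c 1 (.c 0 (.c 0 (.c
  1 (.c 2 .n .n) .n) (.c 1 (.c 1 .n (.c 3 .n .n)) (.c 2 (.c 0 (.c 3 .n .n) (.c 1 (.c 0 .n .n) (.c
  3 .n .n))) (.c 3 .n .n)))) (.c 3 (.c 0 (.c 0 .n (.c 1 .n (.c 2 (.c 0 .n (.c 2 .n .n)) .n))) .n)
  .n)) (.c 2 (.c 0 .n (.c 2 .n (.c 3 .n .n))) (.c 3 (.c 0 (.c 1 (.c 2 .n .n) (.c 2 (.c 1 .n (.c 2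
  (.c 2 .n .n) .n)) .n)) .n) .n)))) (.c 3 .n .n)))) (.c 1 (.c 0 (.c 2 (.c 0 (.c 0 (.c 0 .n (.c 1
  .n (.c 3 .n .n))) (.c 1 (.c 0 .n (.c 2 (.c 1 .n .n) (.c 3 .n .n))) (.c 2 (.c 1 (.c 0 .n (.c 3 .n
  .n)) (.c 3 .n .n)) (.c 3 .n .n)))) (.c 1 (.c 0 (.c 3 .n .n) .n) .n)) .n) (.c 1 (.c 0 (.c 2 (.c 0
  .n (.c 1 .n .n)) .n) (.c 1 (.c 1 .n .n) (.c 2 (.c 0 (.c 0 (.c 1 .n (.c 3 .n .n)) (.c 3 .n .n))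
  (.c 3 (.c 0 (.c 0 (.c 2 .n .n) (.c 3 .n .n)) .n) .n)) (.c 3 .n .n)))) (.c 2 (.c 0 (.c 0 (.c 1
  (.c 0 .n (.c 2 .n (.c 3 .n .n))) (.c 2 (.c 0 (.c 2 .n .n) (.c 3 .n .n)) (.c 3 .n .n))) (.c 1 (.c
  0 (.c 3 .n .n) (.c 1 (.c 1 .n (.c 2 (.c 0 .n .n) .n)) (.c 2 .n (.c 3 (.c 0 .n .n) .n)))) (.c 2
  (.c 0 (.c 0 (.c 2 .n .n) (.c 3 .n .n)) (.c 1 (.c 0 .n (.c 3 .n .n)) (.c 2 (.c 0 .n (.c 2 (.c 3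
  .n .n) (.c 3 .n .n))) (.c 3 (.c 0 .n .n) .n)))) (.c 3 .n .n)))) (.c 1 (.c 0 (.c 0 (.c 1 (.c 2 .n
  .n) .n) (.c 1 (.c 0 (.c 3 .n .n) .n) (.c 2 .n (.c 3 .n .n)))) (.c 3 (.c 0 (.c 0 .n (.c 1 .n (.c
  3 .n .n))) .n) .n)) (.c 3 (.c 0 (.c 0 (.c 1 .n (.c 2 .n .n)) (.c 2 (.c 0 .n (.c 1 .n (.c 3 .n
  .n))) (.c 3 .n .n))) .n) .n))) (.c 3 .n .n)))) (.c 2 (.c 0 (.c 0 (.c 0 (.c 0 (.c 2 .n (.c 3 .n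
  .n)) (.c 1 (.c 1 .n .n) (.c 2 (.c 0 .n (.c 3 .n .n)) (.c 3 .n .n)))) (.c 1 (.c 0 (.c 2 (.c 0 .n
  .n) .n) (.c 1 (.c 0 .n (.c 3 .n .n)) (.c 2 (.c 0 .n (.c 1 .n .n)) (.c 3 .n .n)))) (.c 2 (.c 0
  (.c 0 .n (.c 3 .n .n)) (.c 1 (.c 2 .n .n) (.c 2 (.c 1 (.c 2 .n .n) (.c 2 .n .n)) (.c 3 (.c 0 .n
  .n) .n)))) (.c 3 .n .n)))) (.c 1 (.c 0 (.c 0 .n (.c 2 (.c 0 (.c 0 .n (.c 3 .n .n)) (.c 3 (.c 0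
  (.c 2 .n .n) .n) .n)) (.c 3 .n .n))) (.c 1 (.c 1 .n (.c 2 .n .n)) (.c 2 (.c 0 (.c 3 .n .n) (.c 2
  (.c 2 .n .n) (.c 3 .n .n))) (.c 3 (.c 0 (.c 1 .n .n) .n) .n)))) (.c 2 (.c 0 (.c 1 .n (.c 2 .n
  .n)) (.c 1 (.c 2 (.c 0 .n (.c 2 .n (.c 3 .n .n))) (.c 3 .n .n)) (.c 2 (.c 1 .n (.c 2 (.c 0 .n
  (.c 3 .n .n)) (.c 3 (.c 0 .n .n) .n))) (.c 3 (.c 0 (.c 2 (.c 0 .n .n) .n) .n) .n)))) (.c 3 .n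
  .n)))) (.c 1 (.c 0 (.c 0 (.c 1 (.c 2 .n .n) (.c 2 (.c 1 .n (.c 2 .n .n)) .n)) (.c 1 (.c 0 (.c 2
  .n .n) (.c 1 (.c 2 (.c 0 .n .n) .n) (.c 2 (.c 2 (.c 3 .n .n) (.c 3 .n .n)) (.c 3 .n .n)))) (.c 2
  (.c 0 (.c 2 .n .n) (.c 1 (.c 0 .n (.c 2 .n (.c 3 .n .n))) (.c 2 (.c 0 (.c 2 .n .n) (.c 3 .n .n))
  (.c 3 (.c 0 .n .n) .n)))) (.c 3 .n .n)))) (.c 3 (.c 0 (.c 0 (.c 1 .n .n) (.c 1 .n (.c 2 (.c 0 .n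
  (.c 1 .n .n)) (.c 3 .n .n)))) .n) .n)) (.c 3 (.c 0 (.c 0 (.c 0 (.c 3 .n .n) (.c 1 .n (.c 3 .n
  .n))) (.c 1 (.c 0 (.c 2 .n .n) (.c 2 (.c 0 .n (.c 1 (.c 0 .n .n) (.c 3 .n .n))) (.c 3 .n .n)))
  (.c 2 (.c 0 (.c 1 .n (.c 2 .n .n)) (.c 1 .n (.c 2 (.c 0 .n (.c 2 .n (.c 3 .n .n))) (.c 3 .n
  .n)))) (.c 3 .n .n)))) .n) .n))) (.c 3 .n .n)))) (.c 1 (.c 0 (.c 0 (.c 2 (.c 1 .n .n) .n) (.c 2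
  (.c 0 (.c 0 (.c 0 .n (.c 1 (.c 1 .n (.c 2 .n .n)) (.c 2 .n (.c 3 .n .n)))) (.c 1 (.c 0 (.c 0 .n
  (.c 3 .n .n)) (.c 1 (.c 2 .n .n) (.c 2 (.c 0 .n (.c 1 (.c 0 .n (.c 3 .n .n)) (.c 2 .n (.c 3 (.c
  0 .n .n) .n)))) (.c 3 .n .n)))) (.c 2 (.c 0 (.c 0 (.c 1 .n (.c 2 (.c 1 .n .n) .n)) (.c 1 .n (.c
  3 .n .n))) (.c 1 (.c 0 .n .n) (.c 3 (.c 0 (.c 0 .n .n) .n) .n))) (.c 3 .n .n)))) (.c 1 (.c 0 (.c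
  0 (.c 1 .n (.c 2 .n .n)) (.c 1 (.c 0 (.c 3 .n .n) (.c 1 .n (.c 2 .n .n))) .n)) (.c 3 .n .n)) (.c
  2 (.c 2 (.c 0 (.c 0 .n (.c 1 .n (.c 2 .n (.c 3 .n .n)))) .n) .n) (.c 3 (.c 0 (.c 0 (.c 1 (.c 2
  .n .n) (.c 2 .n (.c 3 .n .n))) (.c 2 (.c 0 .n (.c 2 (.c 3 .n .n) (.c 3 .n .n))) (.c 3 .n .n)))
  .n) .n)))) (.c 3 .n .n))) (.c 1 (.c 0 (.c 1 (.c 1 .n (.c 2 (.c 0 (.c 0 .n .n) .n) .n)) (.c 2 (.c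
  0 (.c 0 (.c 1 (.c 0 .n .n) (.c 3 .n .n)) (.c 1 (.c 0 .n (.c 3 .n .n)) (.c 3 .n .n))) (.c 1 (.c 0
  (.c 1 .n .n) .n) .n)) .n)) (.c 3 .n .n)) (.c 2 (.c 0 (.c 0 (.c 2 (.c 0 .n .n) .n) (.c 1 (.c 3 .n
  .n) (.c 2 (.c 0 (.c 0 (.c 1 .n (.c 2 (.c 0 .n .n) .n)) (.c 1 (.c 0 .n (.c 2 (.c 0 .n (.c 2 .n
  (.c 3 .n .n))) (.c 3 .n .n))) (.c 2 (.c 0 .n (.c 2 .n (.c 3 .n .n))) (.c 3 .n .n)))) (.c 2 (.c 2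
  (.c 0 (.c 0 .n .n) .n) .n) .n)) (.c 3 .n .n)))) (.c 1 (.c 0 (.c 0 .n (.c 3 .n .n)) (.c 3 (.c 0
  .n .n) .n)) (.c 3 (.c 0 (.c 1 .n .n) .n) .n))) (.c 3 (.c 0 (.c 1 (.c 2 .n .n) (.c 2 (.c 0 (.c 1
  (.c 1 (.c 2 .n .n) (.c 2 .n (.c 3 .n .n))) (.c 2 (.c 3 .n .n) (.c 3 .n .n))) .n) .n)) .n) .n))))
  (.c 3 .n .n))) (.c 1 (.c 0 (.c 0 (.c 1 (.c 2 (.c 0 (.c 0 (.c 2 .n .n) (.c 1 (.c 1 .n .n) (.c 2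
  .n (.c 3 .n .n)))) (.c 1 (.c 0 .n .n) .n)) .n) (.c 2 (.c 0 (.c 0 (.c 1 (.c 0 .n .n) (.c 3 .n
  .n)) .n) (.c 1 (.c 0 (.c 0 (.c 2 .n .n) (.c 1 (.c 0 .n (.c 2 (.c 0 .n (.c 2 .n (.c 3 .n .n)))
  (.c 3 .n .n))) (.c 2 (.c 2 .n .n) (.c 3 .n .n)))) .n) .n)) .n)) (.c 1 (.c 0 (.c 2 (.c 0 .n .n)
  (.c 3 .n .n)) (.c 1 (.c 2 (.c 0 (.c 0 .n (.c 2 (.c 1 (.c 3 .n .n) (.c 3 .n .n)) (.c 3 .n .n)))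
  (.c 3 (.c 0 (.c 3 .n .n) .n) .n)) (.c 3 .n .n)) (.c 2 (.c 0 (.c 0 (.c 1 (.c 0 .n .n) (.c 2 (.c 2
  (.c 1 .n .n) .n) .n)) (.c 1 (.c 0 (.c 3 .n .n) (.c 1 (.c 1 .n (.c 2 (.c 2 .n .n) .n)) (.c 2 (.c
  0 .n (.c 2 .n (.c 3 .n .n))) (.c 3 .n .n)))) (.c 2 (.c 0 .n (.c 1 (.c 0 (.c 2 .n .n) (.c 2 .n
  (.c 3 .n .n))) (.c 2 (.c 0 .n (.c 1 .n (.c 3 (.c 0 .n .n) .n))) (.c 3 .n .n)))) (.c 3 .n .n))))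
  (.c 3 (.c 0 (.c 0 (.c 1 .n (.c 2 (.c 2 .n .n) .n)) (.c 1 (.c 0 .n (.c 3 .n .n)) (.c 3 .n .n)))
  .n) .n)) (.c 3 .n .n)))) (.c 2 (.c 0 (.c 0 (.c 0 (.c 0 (.c 2 .n .n) (.c 1 (.c 1 .n (.c 2 (.c 0
  .n .n) .n)) (.c 2 (.c 0 .n (.c 3 (.c 0 .n .n) .n)) (.c 3 .n .n)))) (.c 1 (.c 0 .n (.c 2 (.c 0 .n
  (.c 1 .n (.c 2 .n (.c 3 .n .n)))) (.c 3 .n .n))) (.c 2 (.c 0 (.c 0 .n (.c 2 (.c 1 .n .n) (.c 3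
  .n .n))) (.c 1 (.c 2 .n .n) (.c 2 (.c 1 .n (.c 2 .n (.c 3 .n .n))) (.c 3 .n .n)))) (.c 3 .n
  .n)))) (.c 1 (.c 0 (.c 0 .n (.c 2 (.c 0 (.c 3 .n .n) (.c 3 .n .n)) (.c 3 .n .n))) (.c 1 (.c 1 .n
  (.c 2 (.c 2 .n .n) .n)) (.c 2 (.c 1 .n (.c 2 (.c 2 .n .n) .n)) (.c 3 (.c 0 (.c 1 .n .n) .n)
  .n)))) (.c 2 (.c 0 (.c 0 (.c 3 .n .n) (.c 3 .n .n)) (.c 1 (.c 0 (.c 2 .n .n) (.c 2 (.c 0 (.c 0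
  .n (.c 1 .n .n)) (.c 3 .n .n)) (.c 3 .n .n))) (.c 2 (.c 1 (.c 0 (.c 0 .n (.c 1 .n .n)) (.c 2 .n
  (.c 3 (.c 0 .n .n) .n))) (.c 2 (.c 0 .n (.c 1 (.c 3 .n .n) (.c 3 .n .n))) (.c 3 .n .n))) (.c 3
  (.c 0 (.c 1 .n (.c 2 .n .n)) .n) .n)))) (.c 3 .n .n)))) (.c 1 (.c 0 (.c 0 (.c 1 .n .n) (.c 1 (.c
  0 (.c 3 .n .n) (.c 1 (.c 2 (.c 0 .n .n) .n) (.c 2 (.c 0 .n (.c 2 .n (.c 3 .n .n))) (.c 3 .n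
  .n)))) (.c 2 (.c 0 (.c 0 .n (.c 1 .n .n)) (.c 1 .n (.c 3 (.c 0 .n .n) .n))) (.c 3 .n .n)))) (.c
  3 (.c 0 (.c 0 (.c 1 .n (.c 2 (.c 0 .n .n) .n)) .n) .n) .n)) (.c 3 (.c 0 (.c 0 (.c 0 (.c 2 (.c 2
  .n .n) .n) (.c 1 .n (.c 2 (.c 3 .n .n) (.c 3 .n .n)))) (.c 1 (.c 0 .n (.c 2 (.c 2 .n (.c 3 .n
  .n)) (.c 3 .n .n))) (.c 2 (.c 0 .n (.c 2 (.c 1 .n (.c 3 .n .n)) (.c 3 .n .n))) (.c 3 .n .n))))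
  .n) .n))) (.c 3 .n .n)))) (.c 1 (.c 0 (.c 0 (.c 2 (.c 0 (.c 0 .n (.c 3 .n .n)) .n) .n) (.c 1 (.c
  0 .n (.c 1 .n (.c 2 (.c 0 (.c 0 (.c 3 .n .n) (.c 3 .n .n)) (.c 3 (.c 0 (.c 2 .n .n) .n) .n)) (.c
  3 .n .n)))) (.c 2 (.c 0 (.c 0 (.c 1 (.c 0 .n (.c 1 .n .n)) (.c 2 .n .n)) (.c 1 (.c 0 (.c 3 .n
  .n) (.c 1 (.c 2 (.c 0 .n .n) .n) (.c 2 (.c 0 (.c 2 .n .n) (.c 3 .n .n)) (.c 3 .n .n)))) (.c 2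
  (.c 0 .n (.c 1 (.c 0 (.c 3 .n .n) (.c 3 .n .n)) (.c 3 .n .n))) (.c 3 .n .n)))) (.c 1 (.c 0 (.c 0
  (.c 1 .n .n) (.c 1 (.c 0 .n (.c 2 (.c 0 .n (.c 3 .n .n)) (.c 3 .n .n))) (.c 2 (.c 0 .n (.c 1 .n
  (.c 2 .n (.c 3 .n .n)))) (.c 3 .n .n)))) (.c 3 (.c 0 (.c 1 .n (.c 3 .n .n)) .n) .n)) (.c 2 (.c 2
  (.c 0 (.c 0 .n (.c 1 (.c 3 .n .n) (.c 3 .n .n))) .n) .n) (.c 3 (.c 0 (.c 0 (.c 2 .n .n) (.c 1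
  (.c 0 .n .n) (.c 3 .n .n))) .n) .n)))) (.c 3 .n .n)))) (.c 1 (.c 0 (.c 0 (.c 2 .n .n) (.c 1 .n
  (.c 2 (.c 0 (.c 0 .n (.c 2 (.c 0 (.c 0 .n .n) (.c 1 .n .n)) (.c 3 .n .n))) (.c 2 (.c 2 (.c 0 .n
  .n) .n) .n)) (.c 3 .n .n)))) (.c 1 (.c 0 .n (.c 3 .n .n)) (.c 3 (.c 0 (.c 1 .n .n) .n) .n))) (.c
  2 (.c 0 (.c 0 (.c 2 (.c 0 (.c 0 .n (.c 3 .n .n)) .n) .n) (.c 2 (.c 0 .n (.c 1 (.c 0 .n .n) .n))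
  (.c 3 .n .n))) (.c 3 (.c 0 (.c 2 (.c 0 (.c 0 .n (.c 1 (.c 2 .n .n) (.c 3 .n .n))) .n) (.c 3 .n
  .n)) .n) .n)) (.c 3 (.c 0 (.c 1 (.c 1 .n (.c 2 (.c 0 .n .n) .n)) (.c 2 (.c 0 (.c 0 (.c 1 .n (.c
  2 .n .n)) (.c 1 (.c 1 .n .n) (.c 2 (.c 0 .n .n) .n))) (.c 1 .n .n)) .n)) .n) .n)))) (.c 2 (.c 0
  (.c 0 (.c 1 (.c 0 (.c 2 (.c 0 (.c 3 .n .n) .n) .n) (.c 2 .n .n)) (.c 2 (.c 0 (.c 0 .n (.c 1 (.c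
  1 .n .n) (.c 3 .n .n))) .n) .n)) (.c 1 (.c 0 .n (.c 1 (.c 2 (.c 0 (.c 2 .n (.c 3 .n .n)) .n) .n)
  (.c 2 (.c 0 (.c 0 (.c 1 .n .n) (.c 1 (.c 1 .n (.c 3 .n .n)) (.c 2 (.c 0 .n (.c 2 (.c 2 .n .n)
  (.c 3 .n .n))) (.c 3 .n .n)))) .n) .n))) (.c 2 (.c 0 (.c 0 (.c 0 (.c 1 .n (.c 2 (.c 0 .n (.c 3
  .n .n)) (.c 3 .n .n))) (.c 1 (.c 1 .n .n) (.c 2 .n (.c 3 .n .n)))) (.c 1 (.c 0 (.c 0 .n (.c 2 .n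
  (.c 3 .n .n))) (.c 1 (.c 1 .n .n) (.c 2 (.c 0 .n (.c 3 .n .n)) (.c 3 .n .n)))) (.c 2 (.c 0 (.c 1
  .n (.c 3 .n .n)) (.c 1 (.c 0 .n .n) .n)) (.c 3 .n .n)))) .n) .n))) (.c 1 (.c 0 (.c 0 (.c 2 (.c 0
  .n .n) .n) (.c 1 (.c 2 (.c 0 (.c 2 .n (.c 3 .n .n)) .n) .n) (.c 2 (.c 0 (.c 0 (.c 1 .n (.c 3 .n
  .n)) (.c 1 (.c 1 .n (.c 3 .n .n)) (.c 2 (.c 1 .n .n) (.c 3 .n .n)))) (.c 3 (.c 0 (.c 0 .n (.c 1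
  .n (.c 2 .n (.c 3 .n .n)))) .n) .n)) (.c 3 .n .n)))) (.c 3 (.c 0 .n .n) .n)) (.c 3 (.c 0 (.c 0
  .n (.c 2 (.c 0 .n (.c 3 (.c 0 (.c 1 .n .n) .n) .n)) (.c 3 .n .n))) .n) .n))) (.c 3 (.c 0 (.c 0
  (.c 1 (.c 2 (.c 0 (.c 2 .n (.c 3 .n .n)) .n) .n) (.c 2 (.c 0 (.c 0 (.c 1 .n (.c 2 .n .n)) (.c 3
  .n .n)) (.c 1 (.c 0 (.c 3 .n .n) .n) .n)) .n)) (.c 1 (.c 1 (.c 1 .n (.c 2 (.c 0 .n .n) .n)) (.c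
  2 (.c 0 (.c 0 .n (.c 2 (.c 3 .n .n) (.c 3 .n .n))) .n) .n)) (.c 2 (.c 0 (.c 1 (.c 0 .n (.c 2 .n
  .n)) (.c 2 (.c 0 (.c 2 .n .n) (.c 1 .n .n)) .n)) (.c 1 (.c 0 (.c 0 .n (.c 2 .n (.c 3 .n .n)))
  (.c 3 (.c 0 .n .n) .n)) (.c 3 .n .n))) (.c 3 .n .n)))) .n) .n)))) (.c 2 (.c 0 (.c 0 (.c 1 (.c 0
  (.c 2 .n .n) (.c 1 (.c 2 .n .n) (.c 2 (.c 0 (.c 0 .n (.c 2 .n (.c 3 .n .n))) (.c 1 (.c 0 (.c 2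
  .n .n) .n) .n)) .n))) (.c 2 (.c 0 (.c 0 (.c 0 .n (.c 3 .n .n)) (.c 1 (.c 1 (.c 2 .n .n) (.c 3 .n
  .n)) (.c 2 (.c 0 (.c 0 .n .n) (.c 3 .n .n)) (.c 3 .n .n)))) (.c 1 (.c 0 (.c 0 (.c 1 .n .n) (.c 1
  (.c 1 .n (.c 2 .n .n)) (.c 3 .n .n))) .n) (.c 2 .n .n))) .n)) (.c 1 (.c 0 (.c 2 (.c 0 (.c 0 .n
  (.c 1 .n (.c 2 (.c 3 .n .n) (.c 3 .n .n)))) (.c 3 (.c 0 (.c 0 .n (.c 1 (.c 3 .n .n) (.c 3 .n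
  .n))) .n) .n)) (.c 3 .n .n)) (.c 1 (.c 1 .n (.c 2 .n .n)) (.c 2 (.c 0 (.c 1 .n (.c 3 .n .n)) (.c
  1 (.c 0 (.c 0 .n (.c 1 (.c 2 .n .n) .n)) .n) (.c 2 (.c 0 .n (.c 3 .n .n)) (.c 3 (.c 0 (.c 0 .n
  (.c 3 .n .n)) .n) .n)))) (.c 3 (.c 0 (.c 2 (.c 0 .n .n) .n) .n) .n)))) (.c 2 (.c 0 (.c 0 (.c 1
  (.c 0 (.c 2 .n .n) (.c 2 (.c 0 (.c 0 .n (.c 3 .n .n)) (.c 2 .n .n)) .n)) (.c 2 .n .n)) (.c 1 (.c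
  0 (.c 0 .n (.c 2 .n .n)) (.c 1 (.c 2 .n .n) (.c 2 (.c 0 (.c 1 .n (.c 2 .n .n)) (.c 1 (.c 0 .n
  .n) (.c 2 .n .n))) .n))) (.c 2 (.c 0 (.c 0 (.c 1 .n .n) (.c 1 (.c 0 .n (.c 1 .n (.c 3 .n .n)))
  (.c 3 .n .n))) (.c 1 (.c 0 (.c 1 .n .n) .n) (.c 2 (.c 1 (.c 2 .n .n) (.c 2 .n .n)) .n))) .n)))
  (.c 1 (.c 0 (.c 0 (.c 2 .n .n) .n) (.c 3 (.c 0 (.c 1 .n (.c 2 .n .n)) .n) .n)) (.c 3 (.c 0 (.c 0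
  (.c 0 .n (.c 3 .n .n)) .n) .n) .n))) (.c 3 .n .n)))) (.c 1 (.c 0 (.c 0 (.c 1 (.c 2 (.c 0 .n .n)
  .n) (.c 2 (.c 0 (.c 1 (.c 1 .n (.c 2 .n .n)) (.c 3 .n .n)) (.c 1 .n .n)) .n)) .n) .n) (.c 3 (.c
  0 (.c 0 (.c 0 (.c 2 (.c 0 .n .n) .n) (.c 2 (.c 0 (.c 0 .n (.c 1 (.c 1 .n (.c 3 .n .n)) (.c 2 (.c
  3 .n .n) (.c 3 .n .n)))) .n) .n)) (.c 2 (.c 0 (.c 0 (.c 1 .n (.c 3 .n .n)) (.c 1 (.c 0 (.c 0 .n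
  (.c 3 .n .n)) (.c 1 .n (.c 2 (.c 2 .n (.c 3 .n .n)) (.c 3 .n .n)))) (.c 2 (.c 0 (.c 1 .n .n) (.c
  1 (.c 2 .n .n) (.c 2 (.c 3 .n .n) (.c 3 .n .n)))) (.c 3 .n .n)))) (.c 3 (.c 0 (.c 0 (.c 1 .n .n)
  (.c 2 (.c 3 .n .n) (.c 3 .n .n))) .n) .n)) (.c 3 .n .n))) .n) .n))) (.c 3 (.c 0 (.c 0 (.c 0 (.c
  2 (.c 0 (.c 0 .n (.c 1 .n (.c 3 .n .n))) (.c 1 .n .n)) (.c 3 .n .n)) (.c 1 .n (.c 2 (.c 0 (.c 2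
  (.c 0 .n (.c 2 (.c 1 .n (.c 2 .n .n)) .n)) .n) (.c 1 (.c 0 .n .n) (.c 2 (.c 2 (.c 0 (.c 0 .n (.c
  1 .n .n)) .n) .n) (.c 3 (.c 0 (.c 0 .n (.c 1 .n (.c 2 .n .n))) .n) .n)))) (.c 3 .n .n)))) (.c 1
  (.c 0 (.c 2 (.c 0 (.c 0 (.c 1 .n .n) (.c 1 (.c 3 .n .n) (.c 3 .n .n))) (.c 1 .n .n)) .n) (.c 1
  (.c 2 (.c 0 (.c 2 (.c 0 .n .n) .n) .n) .n) (.c 2 (.c 0 (.c 0 (.c 1 (.c 0 .n (.c 3 .n .n)) (.c 2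
  (.c 2 .n .n) (.c 3 .n .n))) (.c 1 (.c 0 (.c 3 .n .n) (.c 1 (.c 1 .n .n) (.c 2 .n (.c 3 .n .n))))
  (.c 2 (.c 0 .n (.c 1 .n (.c 3 .n .n))) (.c 3 .n .n)))) (.c 1 .n (.c 3 (.c 0 (.c 0 (.c 2 .n .n)
  (.c 1 (.c 0 .n (.c 2 .n .n)) (.c 2 .n (.c 3 .n .n)))) .n) .n))) (.c 3 .n .n)))) (.c 2 (.c 0 (.c
  0 (.c 0 (.c 0 .n (.c 1 (.c 2 .n .n) (.c 3 .n .n))) (.c 3 .n .n)) (.c 1 (.c 0 (.c 2 .n .n) (.c 1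
  (.c 1 .n (.c 2 (.c 0 .n .n) .n)) (.c 2 (.c 0 .n (.c 1 (.c 3 .n .n) (.c 2 .n (.c 3 .n .n)))) (.c
  3 .n .n)))) (.c 2 (.c 0 (.c 0 (.c 0 .n (.c 2 .n (.c 3 .n .n))) (.c 2 .n (.c 3 .n .n))) (.c 1 (.c
  0 .n (.c 3 .n .n)) (.c 2 (.c 0 .n (.c 2 .n (.c 3 .n .n))) (.c 3 (.c 0 .n .n) .n)))) (.c 3 .n
  .n)))) (.c 1 (.c 0 (.c 0 (.c 1 .n .n) (.c 1 .n (.c 2 (.c 0 (.c 2 .n .n) (.c 3 .n .n)) (.c 3 .n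
  .n)))) .n) (.c 3 (.c 0 (.c 1 (.c 0 .n (.c 2 (.c 2 .n .n) (.c 3 .n .n))) (.c 2 (.c 1 .n (.c 2 (.c
  0 .n (.c 3 .n .n)) (.c 3 .n .n))) (.c 3 .n .n))) .n) .n))) (.c 3 .n .n)))) .n) .n))))

def HT : ℕ := nat_lit 0x800201e00a00100500600200100600602100000000200700100000400d00900900100000100100500000000200f00501c0130050a503e00600900a00000500400700101400e00800002000400000900800600000801701600702c00001503801300300200100800300000000a00200000600101000300000101a00000000700300100900200000002000400000500000400e00400300101501a00000800700205200d00200000200100500e00000a00000c00c00000200000100700000000d00800300000a00000200500500200100901301500600900000500000500300100300500700d00802000100200100900200100000200800e008016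00300600300e00800c00b00000000300301001201700a00000e00101b00001700000000400600001101900102700102200c00601d00100f00700300300600400600500400700400500300b00100000700900e02601800a00700000000100400d01400100100e00b00001000d00000000b00800700500200300000001d00400d00400100500700a01800000000100000400000200100000801400000000000000200800a00000d00700400500702100c00600600300b00500c00600f00001b00000200000600d00300000500200300500800000100600000400000500000100000200200000100101a00000001700300000300100900500600000e01a00500600300901001203a00000000500500200600b00000100500500200300100700600501400a01b00100000200f00100000000200600000e00100900500100500e01100000302000a00d02c00100800101b01602300c00400000000100100000f0030010030100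0b01100c00100300d00500303500100400200100801001000d00000000c00400200300200501a00800a01801300000200a01c00a02501400000101f00600201400c00203400200100000900100500201400000c00100800902700800201600000000500000500101301300400400100100a02000800001f00700600304000b00300302900300102800100c00600201400200e00000000200700000200200000800400200200f00000100300800400400300400502201500000000e00200500b00101100401800101002e00500600700c03000b00800700000300000e02001100100200100100001100000800000100600301200800a00600000502600100100300200200700100301c00000800700000a00c00600c06100800901301600000900101400400000700000000001500b00300700700000100100101d00800100d00300b00a01600302600b00400800000000d00601400702e01500200000700000000000700200301300701100f00000d02000000a00005301000200400b00801b00100000000600300101500900700000002600300400500000200200700800100d00901202000000500a00000900300300000700000000100000300101b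

end Cfsg.Agent.H7.J4
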