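/-
Project SGJ4.  A perfect central extension of M22 by a group of order 3 over an extraspecial group
of order 2^13: the element of order 3 acts without fixed points and is inverted.
-/
import Cfsg.Agent.H80.J4T
import Cfsg.Agent.SGJ4.XBasic
import Cfsg.Agent.H92.SylIn
import Cfsg.Agent.H77.Derange
import Cfsg.Agent.H3.Transfer2
import Cfsg.Agent.H3.PGroup
import Cfsg.Agent.H1.Frattini

set_option autoImplicit false

namespace Cfsg.Agent.H7.J4

open Cfsg.Agent.H14 Cfsg.Agent.SGJ4 Cfsg.Agent.H80.J4 Subgroup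
open scoped commutatorElement

theorem mem_comm_of_transfer {M : Type*} [Group M] [Finite M] {K Q : Subgroup M} {p : M}
    (hp : p ∈ K) (h3 : p ^ 3 = 1) (hi : ¬ 3 ∣ K.index)
    (key : ∀ (k : ℕ) (g : M), g⁻¹ * p ^ k * g ∈ K → g⁻¹ * p ^ k * g = p ^ k)
    (hQ : ∀ e ∈ Q, e ^ 2 ^ 13 = 1) (hperf : p ∈ commutator M ⊔ Q) :
    (⟨p, hp⟩ : K) ∈ commutator K := by
  let V := MonoidHom.transfer (Abelianization.of (G := K))
  have h1 : commutator M ⊔ Q ≤ ((powMonoidHom (2 ^ 13)).comp V).ker :=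
    sup_le (Abelianization.commutator_subset_ker _) fun e he => by
      rw [MonoidHom.mem_ker, MonoidHom.comp_apply, powMonoidHom_apply, ← map_pow, hQ e he, map_one]
  have h2 : V p ^ 2 ^ 13 = 1 := h1 hperf
  have h4 : V p = Abelianization.of (⟨p, hp⟩ : K) ^ K.index := by
    rw [← map_pow]; exact MonoidHom.transfer_eq_pow _ p key
  have h5 : Abelianization.of (⟨p, hp⟩ : K) ^ 3 = 1 := by
    rw [← map_pow, show (⟨p, hp⟩ : K) ^ 3 = 1 from Subtype.ext h3, map_one]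
  rw [h4, ← pow_mul] at h2
  have h6 : Nat.gcd 3 (K.index * 2 ^ 13) = 1 := Nat.Coprime.mul_right
    ((Nat.Prime.coprime_iff_not_dvd (by decide)).2 hi) (by decide)
  have := pow_gcd_eq_one.2 ⟨h5, h2⟩
  rw [h6, pow_one] at this
  rwa [← Abelianization.ker_of]

noncomputable def ut : Equiv.Perm GolayPt := GE.perm 0x9ca5a6a42a1a33cd9233e968c037

theorem pk_ut : GE.pk ut = 0x9ca5a6a42a1a33cd9233e968c037 := GE.pk_perm (by decide +kernel)

theorem ut_mem : ut ∈ M22x :=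
  mem_M22x.2 ⟨mem_M24_iff_inM24.2 (by rw [pk_ut]; decide +kernel), by rw [pk_ut]; decide +kernel⟩

theorem ut_xt : ut * xt = yt * ut := by
  rw [← GE.pk_inj, GE.pk_mul, GE.pk_mul, pk_ut, pk_xt, pk_yt]; decide +kernel
theorem ut_yt : ut * yt = xt * yt * ut := by
  rw [← GE.pk_inj, GE.pk_mul, GE.pk_mul, GE.pk_mul, pk_ut, pk_xt, pk_yt]; decide +kernel
theorem xt_yt : xt * yt = yt * xt := by
  rw [← GE.pk_inj, GE.pk_mul, GE.pk_mul, pk_xt, pk_yt]; decide +kernel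

theorem relIndex_T3 : T3.relIndex Spor.M22 = 49280 := by
  have := card_mul_index (T3.subgroupOf Spor.M22)
  rw [Nat.card_congr (subgroupOfEquivOfLe T3_le_M22).toEquiv, card_T3, card_M22] at this
  change 9 * T3.relIndex Spor.M22 = _ at this
  omega

structure Hyp {H : Type*} [Group H] (Q M : Subgroup H) (p : H) (σ : H →* Equiv.Perm GolayPt) :
    Prop where
  card_Q : Nat.card Q = 2 ^ 13
  cent : centralizer (Q : Set H) ≤ Q
  ord : orderOf p = 3
  ker : ∀ h, σ h = 1 ↔ ∃ e ∈ Q, ∃ i : ℕ, h = e * p ^ i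
  M_eq : M = Spor.M22.comap σ
  surj : ∀ g ∈ M22x, ∃ h, σ h = g
  cen : ∀ m ∈ M, m * p * m⁻¹ * p⁻¹ ∈ Q
  perf : M ≤ ⁅M, M⁆ ⊔ Q
  frat : ∀ h, ∃ e ∈ Q, ∃ l, (l * p = p * l ∨ l * p = p⁻¹ * l) ∧ h = e * l

namespace Hyp

variable {H : Type*} [Group H] [Finite H] {Q M : Subgroup H} [Q.Normal] {p : H}
  {σ : H →* Equiv.Perm GolayPt} (h : Hyp Q M p σ)
include h

omit [Finite H] [Q.Normal]

theorem cube : p ^ 3 = 1 := by rw [← h.ord, pow_orderOf_eq_one]
theorem pow_Q {e : H} (he : e ∈ Q) : e ^ 2 ^ 13 = 1 := by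
  rw [← h.card_Q]; exact congrArg Subtype.val (pow_card_eq_one' (x := (⟨e, he⟩ : Q)))
theorem pgroup : IsPGroup 2 Q := IsPGroup.of_card h.card_Q
theorem σ_Q {e : H} (he : e ∈ Q) : σ e = 1 := (h.ker e).2 ⟨e, he, 0, by simp⟩
theorem σ_p : σ p = 1 := (h.ker p).2 ⟨1, one_mem _, 1, by simp⟩
theorem mem_M {g : H} : g ∈ M ↔ σ g ∈ Spor.M22 := by rw [h.M_eq, mem_comap]
theorem Q_le : Q ≤ M := fun _ he => h.mem_M.2 (h.σ_Q he ▸ one_mem _)
theorem p_mem : p ∈ M := h.mem_M.2 (h.σ_p ▸ one_mem _)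

theorem eq_one {R : Subgroup H} (hR : IsPGroup 3 R) {e : H} (he : e ∈ Q) (hr : e ∈ R) : e = 1 :=
  haveI : Fact (Nat.Prime 3) := ⟨by decide⟩
  disjoint_def.1 (IsPGroup.disjoint_of_ne 2 3 (by decide) Q R h.pgroup hR) he hr

theorem p_not_mem : p ∉ Q := fun hp => by
  have := h.eq_one (R := zpowers p) (IsPGroup.of_card (n := 1)
    (by rw [Nat.card_zpowers, h.ord, pow_one]))
    hp (mem_zpowers p)
  simpa [this] using h.ord

theorem sq_not_mem : p * p ∉ Q := fun hp => h.p_not_mem (by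
  have := mul_mem hp hp
  rwa [← mul_assoc, ← pow_three', h.cube, one_mul] at this)

variable [Q.Normal]

theorem comm_mk {m : H} (hm : m ∈ M) :
    Commute (QuotientGroup.mk' Q m) (QuotientGroup.mk' Q p) := by
  rw [← commutatorElement_eq_one_iff_commute, ← map_commutatorElement]
  exact (QuotientGroup.eq_one_iff _).2 (h.cen m hm)

theorem comm_mk' {m n : H} (hm : m ∈ M) (hn : σ n = 1) :
    Commute (QuotientGroup.mk' Q m) (QuotientGroup.mk' Q n) := by
  obtain ⟨e, he, i, rfl⟩ := (h.ker n).1 hn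
  rw [map_mul, map_pow, show QuotientGroup.mk' Q e = 1 from (QuotientGroup.eq_one_iff _).2 he,
    one_mul]
  exact (h.comm_mk hm).pow_right i

variable [Finite H]

theorem mem_comm {R : Subgroup H} (hR : IsPGroup 3 R) (hM : R ≤ M) (hp : p ∈ R)
    (hi : ¬ 3 ∣ R.relIndex M) : (⟨p, hp⟩ : R) ∈ commutator R := by
  have := mem_comm_of_transfer (K := R.subgroupOf M) (Q := Q.subgroupOf M) (p := ⟨p, h.p_mem⟩) hp
    (Subtype.ext h.cube) hi (fun k g hk => ?_) (fun e he => Subtype.ext (h.pow_Q he)) ?_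
  · have h1 := mem_map_of_mem (subgroupOfEquivOfLe hM).toMonoidHom this
    rw [map_commutator_eq, MonoidHom.range_eq_top.2 (subgroupOfEquivOfLe hM).surjective] at h1
    exact h1
  · refine Subtype.ext (mul_inv_eq_one.1 (h.eq_one hR ?_ (mul_mem hk (inv_mem (pow_mem hp k)))))
    rw [← QuotientGroup.eq_one_iff]
    change QuotientGroup.mk' Q ((g : H)⁻¹ * p ^ k * g * (p ^ k)⁻¹) = 1
    rw [map_mul, map_mul, map_mul, map_inv, map_inv, map_pow, mul_assoc _ (_ ^ k),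
      ← ((h.comm_mk g.2).pow_right k).eq, inv_mul_cancel_left, mul_inv_cancel]
  · rw [← mem_map_iff_mem M.subtype_injective, Subgroup.map_sup, map_subtype_commutator,
      map_subgroupOf_eq_of_le h.Q_le]
    exact h.perf h.p_mem

theorem exists_R : ∃ R : Subgroup H, IsPGroup 3 R ∧ R ≤ M ∧ ∃ hp : p ∈ R,
    (⟨p, hp⟩ : R) ∈ commutator R ∧ R.map σ = T3 := by
  have : Fact (Nat.Prime 3) := ⟨by decide⟩
  have h1 : T3.comap σ ≤ M := h.M_eq ▸ comap_mono T3_le_M22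
  have h2 : ∀ A ≤ Spor.M22, (A.comap σ).map σ = A := fun A hA =>
    map_comap_eq_self fun g hg => h.surj g (M22_le_M22x (hA hg))
  obtain ⟨R, hR, h3⟩ := H92.exists_sylIn_ge (p := 3) (Q := zpowers p) (H := T3.comap σ)
    (zpowers_le.2 (mem_comap.2 (h.σ_p ▸ one_mem _)))
    (IsPGroup.of_card (n := 1) (by rw [Nat.card_zpowers, h.ord, pow_one]))
  have h4 := hR.map σ
  rw [h2 _ T3_le_M22] at h4
  refine ⟨R, hR.pgroup, hR.le.trans h1, h3 (mem_zpowers p), h.mem_comm hR.pgroup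
    (hR.le.trans h1) _ ?_, h4.eq_of_isPGroup (IsPGroup.of_card (n := 2) card_T3)⟩
  rw [← relIndex_mul_relIndex _ _ _ hR.le h1, relIndex_comap, h.M_eq, h2 _ le_rfl, relIndex_T3]
  exact fun e => hR.not_dvd_relIndex
    (((Nat.Prime.dvd_mul (by decide)).1 e).resolve_right (by decide))

theorem inv : ∃ l, l * p = p⁻¹ * l := by
  obtain ⟨R, hR, hM, hp, h1, h2⟩ := h.exists_R
  obtain ⟨x, hx, ex⟩ : xt ∈ R.map σ := h2 ▸ xt_mem
  obtain ⟨y, hy, ey⟩ : yt ∈ R.map σ := h2 ▸ yt_mem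
  have kr : ∀ r ∈ R, σ r = 1 → ∃ i : ℕ, r = p ^ i := fun r hr e => by
    obtain ⟨e, he, i, rfl⟩ := (h.ker r).1 e
    exact ⟨i, by rw [h.eq_one hR he ((R.mul_mem_cancel_right (pow_mem hp i)).1 hr), one_mul]⟩
  have gen : ∀ B : Subgroup H, x ∈ B → y ∈ B → p ∈ B → R ≤ B := fun B b1 b2 b3 r hr => by
    obtain ⟨w, hw, e⟩ : σ r ∈ (R ⊓ B).map σ :=
      T3_le (H := (R ⊓ B).map σ) ⟨x, ⟨hx, b1⟩, ex⟩ ⟨y, ⟨hy, b2⟩, ey⟩ (h2 ▸ mem_map_of_mem σ hr)
    obtain ⟨i, e⟩ := kr _ (mul_mem (inv_mem hw.1) hr) (by rw [map_mul, map_inv, e, inv_mul_cancel])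
    exact (B.mul_mem_cancel_left (inv_mem hw.2)).1 (e ▸ pow_mem b3 i)
  have cp : ∀ r ∈ R, r * p = p * r := fun r hr => by
    have := h.eq_one hR (h.cen r (hM hr)) (mul_mem (mul_mem (mul_mem hr hp) (inv_mem hr))
      (inv_mem hp))
    rwa [mul_inv_eq_one, mul_inv_eq_iff_eq_mul] at this
  have hne : ⁅x, y⁆ ≠ 1 := fun e => by
    have e := (commutatorElement_eq_one_iff_commute.1 e).eq
    have m := @mem_centralizer_singleton_iff H _
    have c1 := gen (centralizer {x}) (m.2 rfl) (m.2 e.symm) (m.2 (cp x hx).symm)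
    have c2 := gen (centralizer {y}) (m.2 e) (m.2 rfl) (m.2 (cp y hy).symm)
    have c3 : commutator R = ⊥ := by
      rw [commutator_eq_bot_iff_center_eq_top, eq_top_iff]
      exact fun r _ => mem_center_iff.2 fun s => Subtype.ext (m.1 (gen (centralizer {(r : H)})
        (m.2 (m.1 (c1 r.2)).symm) (m.2 (m.1 (c2 r.2)).symm) (m.2 (cp r r.2).symm) s.2))
    rw [c3, mem_bot, Subtype.ext_iff] at h1
    exact h.p_not_mem ((show p = 1 from h1).symm ▸ one_mem Q)
  obtain ⟨i, hi⟩ := kr ⁅x, y⁆ (mul_mem (mul_mem (mul_mem hx hy) (inv_mem hx)) (inv_mem hy)) (by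
    rw [map_commutatorElement, ex, ey, commutatorElement_eq_one_iff_mul_comm, xt_yt])
  obtain ⟨u, hu⟩ := h.surj ut ut_mem
  obtain ⟨e, he, l, hl, rfl⟩ := h.frat u
  refine ⟨l, hl.resolve_left fun hl => ?_⟩
  rw [map_mul, h.σ_Q he, one_mul] at hu
  set φ := QuotientGroup.mk' Q
  have a1 : σ (y⁻¹ * (l * x * l⁻¹)) = 1 := by
    simp only [map_mul, map_inv, hu, ex, ey, ut_xt, mul_inv_cancel_right, inv_mul_cancel]
  have a2 : σ ((x * y)⁻¹ * (l * y * l⁻¹)) = 1 := by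
    simp only [map_mul, map_inv, hu, ex, ey, ut_yt, mul_inv_cancel_right, inv_mul_cancel]
  have a3 : l * ⁅x, y⁆ * l⁻¹ = ⁅x, y⁆ := by
    rw [hi, (Commute.pow_right hl i).eq, mul_inv_cancel_right]
  have b1 := h.comm_mk' (hM hx) a1
  have b2 := h.comm_mk' (hM hy) a1
  have b3 := h.comm_mk' (hM hx) a2
  have b4 := h.comm_mk' (hM hy) a2
  have b5 := h.comm_mk' (h.mem_M.2 (a1 ▸ one_mem _)) a2
  have a4 : φ ⁅x, y⁆ = ⁅φ y * φ (y⁻¹ * (l * x * l⁻¹)),
      φ x * φ y * φ ((x * y)⁻¹ * (l * y * l⁻¹))⁆ := by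
    rw [← map_mul, ← map_mul, ← map_mul, mul_inv_cancel_left, mul_inv_cancel_left,
      ← map_commutatorElement, ← conjugate_commutatorElement, a3]
  have a5 : φ ⁅x, y⁆ = (φ ⁅x, y⁆)⁻¹ := by
    refine a4.trans ?_
    rw [map_commutatorElement, commutatorElement_inv]
    change Commute (φ _) (φ _) at b1 b2 b3 b4 b5
    generalize φ (y⁻¹ * (l * x * l⁻¹)) = a at *
    generalize φ ((x * y)⁻¹ * (l * y * l⁻¹)) = b at *
    generalize φ x = c at *
    generalize φ y = d at *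
    have k1 : a * (c * d * b) = c * d * b * a :=
      (((b1.mul_left b2).mul_left b5.symm).symm).eq
    have k2 : d * (c * d * b) = d * c * b * d := by simp only [mul_assoc, b4.eq]
    rw [commutatorElement_def, commutatorElement_def, mul_assoc d, k1, ← mul_assoc d, k2]
    simp only [mul_inv_rev, mul_assoc, mul_inv_cancel_left]
  rw [eq_inv_iff_mul_eq_one, ← map_mul, hi, ← pow_add] at a5
  have a6 := h.eq_one hR ((QuotientGroup.eq_one_iff _).1 a5) (pow_mem hp _)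
  rw [← orderOf_dvd_iff_pow_eq_one, h.ord] at a6
  exact hne (by rw [hi, ← orderOf_dvd_iff_pow_eq_one, h.ord]; omega)

omit [Q.Normal] [Finite H] in
theorem exists_eleven : ∃ a : H, a ^ 11 = 1 ∧ a ∉ Q ∧ a * p = p * a := by
  have : Fact (Nat.Prime 11) := ⟨by decide⟩
  obtain ⟨g, hg⟩ := exists_prime_orderOf_dvd_card' (G := Spor.M22) 11 (by rw [card_M22]; decide)
  obtain ⟨x, hx⟩ := h.surj g (M22_le_M22x g.2)
  obtain ⟨e, he, l, hl, rfl⟩ := h.frat x
  rw [map_mul, h.σ_Q he, one_mul] at hx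
  have o : orderOf (σ l) = 11 := by rw [hx, orderOf_coe, hg]
  have c : l * p = p * l := hl.resolve_right fun hl => h.sq_not_mem (by
    have := inv_mem (h.cen l (h.mem_M.2 (hx ▸ g.2)))
    rwa [hl, mul_inv_cancel_right, mul_inv_rev, inv_inv] at this)
  obtain ⟨e, he, i, e1⟩ := (h.ker (l ^ 11)).1 (by rw [map_pow, ← o, pow_orderOf_eq_one])
  have c2 : Commute (l ^ 11) (p ^ i) := (Commute.pow_pow c 11 i)
  have c3 : Commute e (p ^ i) := by
    rw [eq_mul_inv_of_mul_eq e1.symm]; exact c2.mul_left (Commute.refl _).inv_left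
  refine ⟨l ^ (3 * 2 ^ 13), ?_, fun hq => ?_, (Commute.pow_left c _).eq⟩
  · rw [← pow_mul, mul_comm, pow_mul, e1, c3.mul_pow, mul_comm 3, pow_mul, h.pow_Q he, one_pow,
      one_mul, ← pow_mul, mul_comm (2 ^ 13), ← mul_assoc, mul_comm i, mul_assoc, pow_mul, h.cube,
      one_pow]
  · have := h.σ_Q hq
    rw [map_pow, ← orderOf_dvd_iff_pow_eq_one, o] at this
    omega

theorem card_fix (h2 : 2 ∣ Nat.card ↥(Q ⊓ centralizer {p})) :
    Nat.card ↥(Q ⊓ centralizer {p}) = 2 := by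
  have : Fact (Nat.Prime 3) := ⟨by decide⟩
  have : Fact (Nat.Prime 11) := ⟨by decide⟩
  have m := @mem_centralizer_singleton_iff H _
  have pw : ∀ A : Subgroup H, A ≤ Q → ∃ d ≤ 13, Nat.card A = 2 ^ d := fun A hA =>
    (Nat.dvd_prime_pow Nat.prime_two).1 (h.card_Q ▸ card_dvd_of_le hA)
  have ne : ∀ a, a ∉ Q → Nat.card ↥(Q ⊓ centralizer {a}) ≠ 2 ^ 13 := fun a ha e => by
    have := eq_of_le_of_card_ge (inf_le_left : Q ⊓ centralizer {a} ≤ Q) (by rw [e, h.card_Q])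
    exact ha (h.cent fun b hb => m.1 (this.ge hb).2)
  obtain ⟨d, d1, d2⟩ := pw (Q ⊓ centralizer {p}) inf_le_left
  have d3 := ne p h.p_not_mem
  have h9 : 9 ∣ 2 ^ 13 - 2 ^ d := by
    obtain ⟨R, hR, hM, hp, h1, -⟩ := h.exists_R
    have cp : ∀ r ∈ R, r * p = p * r := fun r hr => by
      have := h.eq_one hR (h.cen r (hM hr)) (mul_mem (mul_mem (mul_mem hr hp) (inv_mem hr))
        (inv_mem hp))
      rwa [mul_inv_eq_one, mul_inv_eq_iff_eq_mul] at this
    let _ := MulAction.compHom H (MulAut.conj.comp R.subtype)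
    rw [← h.card_Q, ← d2]
    change 9 ∣ (Q : Set H).ncard - ((Q ⊓ centralizer {p} : Subgroup H) : Set H).ncard
    rw [← Set.ncard_sdiff (fun _ h => h.1)]
    refine H77.dvd_card_of_forall_orbit (G := R) _ (fun r x hx => ?_) 9 fun x hx => ?_
    · change (r : H) * x * (r : H)⁻¹ ∈ _
      refine ⟨‹Q.Normal›.conj_mem x hx.1 r, fun k => hx.2 ⟨hx.1, ?_⟩⟩
      have := mul_mem (mul_mem (inv_mem (m.2 (cp r r.2))) k.2) (m.2 (cp r r.2))
      rwa [← mul_assoc, ← mul_assoc, inv_mul_cancel, one_mul, inv_mul_cancel_right] at this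
    · have np : (⟨p, hp⟩ : R) ∉ MulAction.stabilizer R x := fun k =>
        hx.2 ⟨hx.1, m.2 (mul_inv_eq_iff_eq_mul.1 (show p * x * p⁻¹ = x from k)).symm⟩
      rw [Nat.card_coe_set_eq, ← MulAction.index_stabilizer]
      obtain ⟨k, hk⟩ := hR.index (MulAction.stabilizer R x)
      rcases k with _ | _ | k
      · exact absurd (index_eq_one.1 hk ▸ mem_top _) np
      · have := H3.normal_of_index_eq hR hk
        exact absurd (H1.commutator_le_of_index_prime hk h1) np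
      · exact ⟨3 ^ k, by rw [hk]; ring⟩
  obtain ⟨a, a1, a2, a3⟩ := h.exists_eleven
  have pa : IsPGroup 11 (zpowers a) := IsPGroup.of_card (n := 1) (by
    rw [Nat.card_zpowers, orderOf_eq_prime a1 fun e => a2 (e ▸ one_mem Q), pow_one])
  have k1 := H3.card_modEq_card_inf_centralizer pa (Q := Q) (by rw [normalizer_eq_top]; exact le_top)
  have k2 := H3.card_modEq_card_inf_centralizer pa (Q := Q ⊓ centralizer {p}) (by
    refine zpowers_le.2 (inf_normalizer_le_normalizer_inf ⟨by rw [normalizer_eq_top]; trivial, ?_⟩)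
    exact le_normalizer (m.2 a3))
  rw [zpowers_eq_closure, centralizer_closure] at k1 k2
  obtain ⟨k, k3, k4⟩ := pw (Q ⊓ centralizer {a}) inf_le_left
  obtain ⟨j, -, j2⟩ := pw (Q ⊓ centralizer {p} ⊓ centralizer {a}) (inf_le_left.trans inf_le_left)
  have j3 : j ≤ k := (Nat.pow_dvd_pow_iff_le_right one_lt_two).1
    (j2 ▸ k4 ▸ card_dvd_of_le (inf_le_inf_right _ inf_le_left))
  have k5 := ne a a2
  rw [h.card_Q, k4] at k1
  rw [d2, j2] at k2
  rw [k4] at k5
  rw [d2] at d3 h2 ⊢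
  have k6 : k = 3 := by interval_cases k <;> first | rfl | (revert k1 k5; decide)
  subst k6
  interval_cases d <;> first | rfl | (revert h9 d3 h2; decide) | skip
  interval_cases j <;> revert k2 <;> decide

end Hyp

end Cfsg.Agent.H7.J4
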