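/-
Project SGJ4.  From the normal series of the centraliser of the involution to the model `Hb`.
-/
import Cfsg.Agent.H7.J4Hyp
import Cfsg.Agent.SGJ4.Rep

set_option autoImplicit false

namespace Cfsg.Agent.H7.J4

open Cfsg.Agent.H14 Cfsg.Agent.SGJ4 Subgroup

theorem exists_sigma {H : Type*} [Group H] [Finite H] {N M : Subgroup H} [N.Normal] [M.Normal]
    (hNM : N ≤ M) (hM : M.index = 2)
    (hout : ∀ c : H, (∀ m ∈ M, c * m * c⁻¹ * m⁻¹ ∈ N) → c ∈ M)
    (ψ : (M ⧸ N.subgroupOf M) ≃* Spor.M22) : ∃ σ : H →* Equiv.Perm GolayPt,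
    (∀ h, σ h ∈ M22x) ∧ (∀ g ∈ M22x, ∃ h, σ h = g) ∧ (∀ h, σ h = 1 ↔ h ∈ N) ∧
      M = Spor.M22.comap σ := by
  obtain ⟨f, hf⟩ := exists_autM22
  let θ : M →* Equiv.Perm GolayPt :=
    (Spor.M22.subtype.comp ψ.toMonoidHom).comp (QuotientGroup.mk' _)
  have t1 : ∀ m, θ m ∈ Spor.M22 := fun m => (ψ _).2
  have t2 : ∀ g ∈ Spor.M22, ∃ m, θ m = g := fun g hg => by
    obtain ⟨m, e⟩ := QuotientGroup.mk'_surjective _ (ψ.symm ⟨g, hg⟩)
    refine ⟨m, ?_⟩
    change ((ψ (QuotientGroup.mk' _ m) : Spor.M22) : Equiv.Perm GolayPt) = g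
    rw [e, ψ.apply_symm_apply]
  have t3 : ∀ m, θ m = 1 ↔ (m : H) ∈ N := fun m => by
    change ((ψ (QuotientGroup.mk' _ m) : Spor.M22) : Equiv.Perm GolayPt) = 1 ↔ _
    rw [OneMemClass.coe_eq_one, EmbeddingLike.map_eq_one_iff, QuotientGroup.mk'_apply,
      QuotientGroup.eq_one_iff, mem_subgroupOf]
  have ex : ∀ h : H, ∃ g ∈ M22x, ∀ m, θ (MulAut.conjNormal h m) = g * θ m * g⁻¹ := fun h => by
    have he : (N.subgroupOf M).map (MulAut.conjNormal h : MulAut M) = N.subgroupOf M :=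
      eq_of_le_of_card_ge (by rintro _ ⟨n, hn, rfl⟩; exact ‹N.Normal›.conj_mem _ hn h)
        (card_map_of_injective (MulEquiv.injective _)).ge
    let a : MulAut Spor.M22 := ψ.symm.trans ((QuotientGroup.congr _ _ _ he).trans ψ)
    refine ⟨f.symm a, (f.symm a).2, fun m => ?_⟩
    have := hf (f.symm a) (ψ (QuotientGroup.mk' _ m))
    rw [f.apply_symm_apply] at this
    refine Eq.trans ?_ this
    change _ = ((ψ (QuotientGroup.congr _ _ _ he (ψ.symm (ψ _))) : Spor.M22) : Equiv.Perm GolayPt)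
    rw [ψ.symm_apply_apply]; rfl
  have un : ∀ g ∈ M22x, ∀ g' ∈ M22x, (∀ m, g * θ m * g⁻¹ = g' * θ m * g'⁻¹) → g = g' :=
    fun g hg g' hg' e => (inv_mul_eq_one.1 (X49.eq_one_of_cent (mul_mem (inv_mem hg') hg).1
      fun x hx => by
        obtain ⟨m, rfl⟩ := t2 x hx
        rw [mul_assoc, mul_inv_eq_iff_eq_mul.1 (e m)]; group)).symm
  choose s s1 s2 using ex
  let σ : H →* Equiv.Perm GolayPt := MonoidHom.mk' s fun a b =>
    un _ (s1 _) _ (mul_mem (s1 _) (s1 _)) fun m => by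
      rw [← s2, map_mul, MulAut.mul_apply, s2, s2]; group
  have k1 : ∀ m : M, σ m = θ m := fun m => un _ (s1 _) _ (M22_le_M22x (t1 m)) fun m' => by
    rw [← map_inv, ← map_mul, ← map_mul]; exact (s2 m m').symm
  have k2 : ∀ h, σ h = 1 ↔ h ∈ N := fun h => by
    refine ⟨fun e => ?_, fun hh => (k1 ⟨h, hNM hh⟩).trans ((t3 _).2 hh)⟩
    have hm := hout h fun m hm => (t3 (MulAut.conjNormal h ⟨m, hm⟩ * (⟨m, hm⟩ : M)⁻¹)).1 (by
      rw [map_mul, s2, show s h = 1 from e, map_inv]; group)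
    exact (t3 ⟨h, hm⟩).1 ((k1 _).symm.trans e)
  refine ⟨σ, s1, fun g hg => ?_, k2, le_antisymm (fun m hm => ?_) fun h hh => ?_⟩
  · have : σ.range = M22x := eq_of_le_of_card_ge (by rintro _ ⟨h, rfl⟩; exact s1 h) (by
      rw [← index_ker, show σ.ker = N from Subgroup.ext k2, ← relIndex_mul_index hNM, hM, card_M22x,
        relIndex, index, Nat.card_congr ψ.toEquiv, card_M22])
    exact this.ge hg
  · exact mem_comap.2 ((k1 ⟨m, hm⟩).symm ▸ t1 _)
  · obtain ⟨m, e⟩ := t2 _ hh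
    exact (M.mul_mem_cancel_left (inv_mem m.2)).1
      (hNM ((k2 _).1 (by rw [map_mul, map_inv, k1, e, inv_mul_cancel])))

open RepAux in
theorem exists_pre {H : Type*} [Group H] [Finite H] {z : H} (hz : orderOf z = 2)
    (cz : ∀ h, h * z = z * h) {Q N M : Subgroup H} [Q.Normal] [N.Normal] [M.Normal] (hQN : Q ≤ N)
    (hNM : N ≤ M) (hM : M.index = 2) (hQ : IsExtraspecial 2 Q) (hc : Nat.card Q = 2 ^ 13)
    (hN : Nat.card N = 3 * Nat.card Q) (hcent : ⁅M, N⁆ ≤ Q) (hperf : M ≤ ⁅M, M⁆ ⊔ Q)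
    (hC : centralizer (Q : Set H) ≤ Q)
    (hout : ∀ c : H, (∀ m ∈ M, c * m * c⁻¹ * m⁻¹ ∈ N) → c ∈ M)
    (ψ : (M ⧸ N.subgroupOf M) ≃* Spor.M22) : ∃ (p : H) (π : H →* AG), orderOf p = 3 ∧ π p = om ∧
      π.range = Hb ∧ (∀ h, π h = 1 → h = 1 ∨ h = z) ∧ ∀ h v, π h = tr v → h * h = zp z (q v) := by
  classical
  have : Fact (Nat.Prime 3) := ⟨by decide⟩
  obtain ⟨σ, s1, s2, s3, s4⟩ := exists_sigma hNM hM hout ψ
  obtain ⟨⟨p, pN⟩, hp⟩ := exists_prime_orderOf_dvd_card' (G := N) 3 (hN ▸ dvd_mul_right _ _)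
  replace hp : orderOf p = 3 := by rw [← hp, ← orderOf_coe]
  have hP : Nat.card (zpowers p) = 3 := by rw [Nat.card_zpowers, hp]
  have n6 : zpowers p ≤ N := zpowers_le.2 pN
  have zE : z ∈ Q := hC fun e _ => cz e
  have z1 : z ≠ 1 := fun h => by simp [h] at hz
  have z2 : z * z = 1 := by rw [← sq, ← hz, pow_orderOf_eq_one]
  obtain ⟨W, _, _, _, _, D, hD, hπ⟩ := H3.exists_esData_of_isExtraspecial hQ
  have cen : ∀ a : Q, a ∈ center Q ↔ (a : H) = 1 ∨ (a : H) = z := by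
    have zc : (⟨z, zE⟩ : Q) ∈ center Q := mem_center_iff.2 fun e => Subtype.ext (cz e)
    obtain ⟨y, -, hy⟩ := (Nat.card_eq_two_iff' (1 : center Q)).1 hQ.2
    refine fun a => ⟨fun ha => or_iff_not_imp_left.2 fun h1 => ?_, ?_⟩
    · have e1 := hy ⟨a, ha⟩ fun h => h1 (congrArg (fun x : center Q => ((x : Q) : H)) h)
      have e2 := hy ⟨_, zc⟩ fun h => z1 (congrArg (fun x : center Q => ((x : Q) : H)) h)
      exact congrArg (fun x : center Q => ((x : Q) : H)) (e1.trans e2.symm)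
    · rintro (h | h)
      · rw [show a = 1 from Subtype.ext h]; exact one_mem _
      · rw [show a = ⟨z, zE⟩ from Subtype.ext h]; exact zc
  have hζ : ∀ s, (D.ζ s : H) = zp z s := fun s => by
    unfold zp
    split_ifs with h
    · rw [h, D.ζ_zero]; rfl
    · exact ((cen _).1 (D.ζ_mem_center s)).resolve_left fun e =>
        h (D.ζ_eq_one_iff.1 (Subtype.ext e))
  have qa : ∀ v w, D.f (v + w) = D.f v + D.f w + D.B w v := fun v w => by
    rw [D.f_add]; simp
  have kN : ∀ h, h ∈ N ↔ ∃ e ∈ Q, ∃ i : ℕ, h = e * p ^ i := by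
    have e1 : Q ⊔ zpowers p = N := by
      refine eq_of_le_of_card_ge (sup_le hQN n6) (Nat.le_of_dvd Nat.card_pos ?_)
      rw [hN, hc]
      refine Nat.Coprime.mul_dvd_of_dvd_of_dvd (by decide) ?_ ?_
      · rw [← hP]; exact card_dvd_of_le le_sup_right
      · rw [← hc]; exact card_dvd_of_le le_sup_left
    refine fun h => ⟨fun hh => ?_, ?_⟩
    · rw [← e1, ← SetLike.mem_coe, normal_mul] at hh
      obtain ⟨e, he, x, hx, rfl⟩ := hh
      obtain ⟨i, rfl⟩ := (mem_powers_iff_mem_zpowers.2 hx)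
      exact ⟨e, he, i, rfl⟩
    · rintro ⟨e, he, i, rfl⟩
      exact mul_mem (hQN he) (pow_mem pN i)
  have syl : H92.SylIn 3 (zpowers p) N := by
    refine H92.sylIn_of_not_dvd_relIndex n6 (IsPGroup.of_card (n := 1) hP) ?_
    have := card_mul_index ((zpowers p).subgroupOf N)
    rw [Nat.card_congr (subgroupOfEquivOfLe n6).toEquiv, hP, hN, hc] at this
    rw [show (zpowers p).relIndex N = 2 ^ 13 from Nat.eq_of_mul_eq_mul_left (by decide) this]
    decide
  have hy : Hyp Q M p σ := ⟨hc, hC, hp, fun h => (s3 h).trans (kN h), s4, s2,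
    fun m hm => hcent (commutator_mem_commutator hm pN), hperf, fun h => by
      obtain ⟨n, hn, h1⟩ := syl.frattini (g := h) (by rw [normalizer_eq_top]; trivial)
      obtain ⟨e, he, i, e1⟩ := (kN n⁻¹).1 (inv_mem hn)
      exact ⟨e, he, p ^ i * (n * h),
        norm_cases hp (mul_mem (le_normalizer (pow_mem (mem_zpowers p) i)) h1),
        by rw [← mul_assoc, ← e1, inv_mul_cancel_left]⟩⟩
  have zle : zpowers z ≤ Q ⊓ centralizer {p} :=
    zpowers_le.2 ⟨zE, mem_centralizer_singleton_iff.2 (cz p).symm⟩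
  have cz2 : Nat.card (zpowers z) = 2 := by rw [Nat.card_zpowers, hz]
  have hfix := eq_of_le_of_card_ge zle (by rw [cz2, hy.card_fix (cz2 ▸ card_dvd_of_le zle)])
  let k : H → W := fun h => if hh : h ∈ Q then D.π ⟨h, hh⟩ else 0
  have hk : ∀ (h : H) (hh : h ∈ Q), k h = D.π ⟨h, hh⟩ := fun h hh => dif_pos hh
  let R : Pre H W :=
    { z := z
      p := p
      E := Q
      k := k
      σ := σ
      Q := D.f
      Bf := fun v w => D.B w v
      card_W := by
        have := D.card_eq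
        rw [hc] at this; omega
      two := fun v => by
        rw [← two_smul (ZMod 2) v, show (2 : ZMod 2) = 0 from rfl, zero_smul]
      normal := ‹_›
      z_sq := z2
      z_ne := z1
      z_comm := cz
      z_mem := zE
      k_mul := fun e he f hf => by
        rw [hk _ he, hk _ hf, hk _ (mul_mem he hf), ← D.π_mul]; rfl
      k_surj := fun w => by
        obtain ⟨a, rfl⟩ := D.π_surj w
        exact ⟨a, a.2, hk _ a.2⟩
      k_zero := fun e he => by rw [hk _ he, hπ, cen]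
      sq := fun e he => by rw [hk _ he, ← hζ, ← D.pow_eq, sq]; rfl
      Q_add := qa
      B_add := fun u v w => map_add _ _ _
      Q_ne := by
        by_contra! h
        obtain ⟨v, hv⟩ := exists_ne (0 : W)
        refine hv (hD.1 v fun w => ?_)
        have := qa w v
        rwa [h, h, h, zero_add, zero_add, eq_comm] at this
      cent := fun h hh => hC fun e he => (hh e he).symm
      p_ord := hp
      fix := fun e he h => mem_zpowers_two hz
        (hfix.ge ⟨he, mem_centralizer_singleton_iff.2 h⟩)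
      σ_mem := s1
      σ_surj := s2
      σ_ker := hy.ker
      frat := hy.frat
      inv := hy.inv }
  obtain ⟨p', π, h1, h2, h3, h4, h5, -⟩ := R.exists_pi
  refine ⟨p', π, ?_, h2, h3, h4, h5⟩
  rcases h1 with rfl | rfl
  exacts [hp, (orderOf_inv p).trans hp]

end Cfsg.Agent.H7.J4
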