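import Cfsg.Agent.H7.Chain
import Cfsg.Agent.H58.SuzP

/-! Data and kernel checks for the local structure of the Suzuki group in its action on 1782 points (generated). -/

set_option autoImplicit false
set_option maxRecDepth 100000
set_option exponentiation.threshold 400000

namespace Cfsg.Agent.H7.SuzD

open H58 H58.SuzP

def X : List ℕ := [2, 3, 4, 3, 4, 2, 3, 4, 3, 4, 2, 3, 4, 3, 4, 2, 3, 4, 3, 4, 2, 3, 4, 3, 4]
def U : List ℕ := [2, 3, 6, 2, 1, 2, 3, 6, 2]
def V : List ℕ := [2, 3, 7, 2, 1, 2, 3, 7, 2]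
def q4 : List ℕ := [2, 3, 4, 5, 3, 4, 2, 3, 4, 5, 2, 3, 4, 3, 4, 2, 1, 2, 3, 4, 5, 3, 4, 3, 2, 1, 2]
def sw : List ℕ := [4, 2, 6, 3, 2, 1, 2, 6, 3, 7, 3, 2, 1, 2, 7, 3, 2, 4, 2, 3, 7, 2, 1, 2, 3, 7, 3, 6, 2, 1, 2, 3, 6, 2, 4]
def wsA : List (List ℕ) := [[5], X]
def ws3 : List (List ℕ) := [[3], [4], [5], X]
def ws1 : List (List ℕ) := [[3], [4], [5], X, [6], U]
def ws0 : List (List ℕ) := [[3], [4], [5], X, [6], U, [7], V]
def wsJ : List (List ℕ) := [[1], [2], [3], [4], [5]]
def wsH : List (List ℕ) := [[1], [2], [3], [4], [5], [6]]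
def wsL : List (List ℕ) := [[1], [2], [3], [6], [7]]
def wsQ : List (List ℕ) := [[3], [4, 3, 4], [5, 4, 3, 4, 5], q4, [6], [7]]
def wsS : List (List ℕ) := [[1], [3], [6], U, [7], V, sw]
abbrev full : ℕ := Nat.pred (Nat.pow 2 1782)
def R304 : ℕ := 0x20000000080000000000000000000000000000000000000000000000000000000040000000000000000000000000000100040000000000000000000000000000040000000000000000000000000000000000008020000000000000000004000000000000000040000000000800000000000000000000000010000000000000000000000000000000000000000000000000000000000000000000000000000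
theorem b304 : bfs SuzM.nets wsA [0, 1, 0, 1, 1] (Nat.pow 2 304) = R304 := by decide +kernel
theorem n304 : cntErr 11 12 R304 = 0 := by decide +kernel
def R160 : ℕ := 0x2000000000000000000000000000000008000000000080000000000000000000000000000000005300000800000000000000000600000000000400008000000000d80000000002000001500000000000000000b2000000b000000000000180002e80000003005ba00028058000022b0004800000000000002e00003a100000000802c004250b802c080003614d808000000010002c20000002002a3808000a309e08000000008000000028c00001109c0000000000530000960000002b009a0000565640168805a0800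
theorem b160 : bfs SuzM.nets ws3 [0, 1, 0, 2, 1, 0, 2, 1, 2, 0, 3, 1, 2, 1, 0] (Nat.pow 2 11) = R160 := by decide +kernel
theorem n160 : cntErr 11 160 R160 = 0 := by decide +kernel
def R315 : ℕ := 0x20000440000000000000010000000000000000000b00600008000000000000000000000000800000000009c000000000000000000000000000000025b00000f00000000800000000600000000000400008000000000dc7002000002000001580000000000000006b2000000bc00000007803580012ec0000003005ba000280d98c3022b0004b0000000000008ee00023b100001819806c004250b806c184443614dc08000000330006c20006606002a3818211a309e08000098019003020028c08213109c800606044053049c97808c242b3a9f82665777f3d6effdffffe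
theorem b315 : bfs SuzM.nets wsJ [1, 0, 2, 1, 3, 2, 0, 4, 1, 3, 2, 4, 1, 0, 3, 1, 2, 0, 4, 1, 2] (Nat.pow 2 1) = R315 := by decide +kernel
theorem n315 : cntErr 11 315 R315 = 0 := by decide +kernel
def R416 : ℕ := 0x338007f20c00000000007f00000000008000804eeb80200d31802000000000000000000000000006781e72000040000000000000080181fc0d83ce8a80048c000e3fe382258640c000000000000000000000079c81e600100200000000000000703c0fe0611c474e00140c40003f3fc23904d00262800000000000000079803a00600000000000e787fe047474601cc5000cff9d4744250000000001d034530000000247ffe3ae88d25039ffd11100000034694c00001a7ffba44444ff88800001a694800027fd111f10000d240007a2390008000691000000800000000000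
theorem b416 : bfs SuzM.nets wsH [5, 1, 0, 2, 1, 3, 2, 0, 4, 1, 5, 3, 0, 2, 1, 5, 0, 3, 4, 1, 2, 0, 1] (Nat.pow 2 995) = R416 := by decide +kernel
theorem n416 : cntErr 11 416 R416 = 0 := by decide +kernel
def R32 : ℕ := 0x30800080000000000000000000000000000000000000000000000000000000000000000000000000000000000000000000000000000000000000000000000000020000000080000000000000000000000000000000000000000000000000000000040800000002000000000000000000100040000000000000000000000000000040000000000000058000202000180000000008020000000000000000004200000000040001040080000000800000000000010800000000010000000000000000001000000000000000000000000000000000000000000000000000000000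
theorem b32 : bfs SuzM.nets ws1 [4, 5, 1, 2, 5, 1, 3, 1, 2, 5] (Nat.pow 2 995) = R32 := by decide +kernel
theorem n32 : cntErr 11 32 R32 = 0 := by decide +kernel
def R54 : ℕ := 0x38e0008c400000000000000400000000000000000001000000000000000000000000000000000000000000000000000000000000000000000000000000000000020000000080000000000000000000000000000000000000000000000000000000040800000002000000000000000000100040000000000000000000000000000040000000000000058000202000180000000008020000000000000000004200000000040001040080000000800000000000010800000000010000000000180000001000000000000003000000000000002000004000100018000060010003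
theorem b54 : bfs SuzM.nets ws0 [6, 7, 1, 2, 5, 7, 1, 3, 1, 2, 5] (Nat.pow 2 0) = R54 := by decide +kernel
theorem n54 : cntErr 11 54 R54 = 0 := by decide +kernel
def R10 : ℕ := 0x200004400000000000000000000000000000000001000000000000000000000000000000000000000000000000000000000000000000000000000000000000000000000000000000000000000000000000000000000000000000000000000000000000000000000000000000000000000000000000000000000000000000000000000000000000000000000000000000000000000000000000000000000000000000000000000000000000000000000000000000000000000000000000000000000000000000000000000000000000000000004000000018000060010000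
theorem b10 : bfs SuzM.nets ws3 [1, 0, 2, 1, 3, 1] (Nat.pow 2 16) = R10 := by decide +kernel
theorem n10 : cntErr 11 10 R10 = 0 := by decide +kernel
theorem k416 : keepErr SuzM.nets wsH R416 = 0 := by decide +kernel
theorem fA : fixErr SuzM.nets wsA [11] = 0 := by decide +kernel
theorem f3 : fixErr SuzM.nets ws3 [1] = 0 := by decide +kernel
theorem fJ : fixErr SuzM.nets wsJ [995] = 0 := by decide +kernel
theorem f3a : fixErr SuzM.nets ws3 [995] = 0 := by decide +kernel
theorem f1 : fixErr SuzM.nets ws1 [0] = 0 := by decide +kernel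
def Ma : ℕ := 0x71fff73bffffffffffffffbfffffffffffffffffffefffffffffffffffffffffffffffffffffffffffffffffffffffffffffffffffffffffffffffffffffffffdffffffff7ffffffffffffffffffffffffffffffffffffffffffffffffffffffffbf7fffffffdffffffffffffffffffefffbfffffffffffffffffffffffffffffbffffffffffffffa7fffdfdfffe7fffffffff7fdffffffffffffffffffbdfffffffffbfffefbff7fffffff7ffffffffffffef7fffffffffeffffffffffe7ffffffeffffffffffffffcffffffffffffffdfffffbfffefffe7ffff9ffefffc
theorem hMa : movM SuzM.nets 1782 11 [1] 11 = Ma := by decide +kernel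
def Me : ℕ := 0x3ffffffffffffffffffffffffffffffffffffffffffffffffffffffffffffffffffffffffffffffffffffffffffffffffffffffffffffffffffffffffffffffffffffffffffffffffffffffffffffffffffffffffffffffffffffffffffffffffffff7ffffffffffffffffffffffdffffffffffffffffffffffffffffffffffffffffffffffffffff8ffffffffffefffffff3ffffffffffdfffffffffffffffffffffffc3fffffff9fffff7fffffefffffffffffffffffd7ffffdfffffffefffffffffffffffffffffffffffffffffffffffffffffffeffffffdeebf94f100
theorem hMe : movM SuzM.nets 1782 11 [5] 11 = Me := by decide +kernel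
def MX : ℕ := 0x3ffffffffffffffffffffffffffffffffffffffffffffffffffffffffffffffffffffffffffffffffffffffffffffffffffffffffffffffffffffffffffffffffffffffffffffffffffffffffffffffffffffffffffffffffffffffffffffffffffff7ffffffffffffffffffffffdffffffffffffffffffffffffffffffffffffffffffffffffffff8ffffffffffefffffff3ffffffffffdfffffffffffffffffffffff83fffffff1ffffe7fffffe7fffffffff7ffffff83ffff87ff0ff1e87fbdf8e7373bf83fe3e7dd1f71c95b79fbce53a26d78e646464b284415004000
theorem hMX : movM SuzM.nets 1782 11 X 11 = MX := by decide +kernel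
def Mc : ℕ := 0x3ffffffffffffffffffffffffffffffffffffffffffffffffffffffffffffffffffffffffffffffffffffdffffffffffffffffffffffffffffffffff7ffffffffdffffffcf7ffffffffffffffffffffffffffffffff97fe7fffffffffffffffffffbf7fffffffffbffffffffffffffffefbfbffffffffffffffffffffffffffc7fb7fffffffffffffaffffffffffeffffffffff7fdfffffffffffffffffebffffffffffffffffbffffffffff7ffffffffffffffffffffffffeffffffffffeffffffffffffffffffffffffffffffffe7cfffffffff923efffff0fffbdfefffc
theorem hMc : movM SuzM.nets 1782 11 [3] 11 = Mc := by decide +kernel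
def Mq2 : ℕ := 0x3ffffffffffffffffffffffffffffffffffffffffffffffffffffffffffffffffffffffffffffffffffffffffffffffffffffffffffffffffffffffffffffffffdffffffffffffffffffffffffffffffffffffff7ffffffffffffffffffffffffffbf7fffffffdf7fffffffffffffffffe7fbfffffffffffffffffffffffdfd7ffcffffffffffffffeffffdfdfbffffffffffff7edfffffffffffffffbf9fdbffffffffbfffeffff7fffffff7ffffffffffffcfffffffffffffffffffffffffffffffffffffff3fe7ffdffffffffffcf4e5fffffffde5fffeffbffdffffffc
theorem hMq2 : movM SuzM.nets 1782 11 [4, 3, 4] 11 = Mq2 := by decide +kernel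
def Mq3 : ℕ := 0x3ffffffffffffffffffffffffffffffffffffffffffffffffffffffffffffffffffffffffffffffffffffffffffffffffffffffffffffffffffffffffffffffffdffffffff7ffffffffffffffffffffffffffffffffffffffffffffffffffffffffbf7fffffffdffffffffffffffffffeffffffffffffffffffffffffffe7ffffffffffffffffffffe7fffdfdffff7ffffffffff9ffffffffffffffea7ffe7fffffffffffffefbfffffffffffdfffffffff8ffe7fffffffffefffffffcff37fffff7effffffffffff862fffffffffffff1bfffffbfffbffff7fffffffffffc
theorem hMq3 : movM SuzM.nets 1782 11 [5, 4, 3, 4, 5] 11 = Mq3 := by decide +kernel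
def Mq4 : ℕ := 0x27ffff77bffffffffffffffffffffffffffffffffffefffffffffffffffffffffffffffffffffffffffffffffffffffffffffffffffd7fffffffffffffffffffffffffffffffbffefefffffffffffffffffffffffffffffffffffffffffffffd7fd7f7fffffffdbf7ffff3ffffffffffffffbdff9fefffffffffffffffffffffffbffffffffffdfdfeffffdffefbfffbfffffff7fffffbffffffffffffffbdfffffffffffffffbefffffc3fffffffffffffffef7fffffffffefffff8ffffffffffffefffffffffffdffffffffffffffffffffffffffffffffffffffffffffc
theorem hMq4 : movM SuzM.nets 1782 11 q4 11 = Mq4 := by decide +kernel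
def Mf : ℕ := 0x379fffc3bffffffffffff7fbfffffffffffffffffc7effffffffffffffffffffffffffffffffffffd7efdffffffffffffffffffffffffffffffffff7fffbfffffffffffffffffffffffffffffffffffffffffbf7ffbfffffffffffffffffffffffffffffffffffffffffffffffffffffffffffffffffffffffffffffffefffffffffffffffffffffffffffffffffffffffffb7fffffffffffffffffffffffffffffffffefdffffffffffff5bffffffffffffffffffffffdeefffffffb7ffe7fffffffffffffddfffeffcfffffffffbffffdfffffbfffefffe7ffff9ffefffc
theorem hMf : movM SuzM.nets 1782 11 [6] 11 = Mf := by decide +kernel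
def Mt : ℕ := 0x3fdffffbbffffffffffffffffffffffffffffffffffeffffffffffffffffffffffffffffffffffffffffffffffffffffffffffffffffffffffffffffffffffecfffffffffffffffffffffffffffffffffffffffffffffffffffffffffffffffffffff7fffffffdffffffffff4bffffffffffffffffffffffffffcfffeffffffffffffffffffffffffaffffdfdfffeffffbffffffffffffffffffeffffffffdffdfeb3ffffffefffffffffffffffffffffdfffef7fdf7ffffffffffffffffefffffffeffbfdffffffffffffbfffcf7fffffffbfefbfffefffe7ffffdfb5f7ff
theorem hMt : movM SuzM.nets 1782 11 [6, 7, 6, 3] 11 = Mt := by decide +kernel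
theorem fixQ : dif (dif (dif (dif (dif full Mc) Mq2) Mq3) Mq4) Mf = Nat.lor (Nat.pow 2 0) (Nat.pow 2 1) := by decide +kernel
theorem bitQ : Mc.testBit 0 = false ∧ Mq2.testBit 0 = false ∧ Mq3.testBit 0 = false ∧ Mq4.testBit 0 = false ∧ Mf.testBit 0 = false ∧ Mt.testBit 11 = false := by decide +kernel
theorem bita : Ma.testBit 0 = false ∧ Ma.testBit 995 = false ∧ Ma.testBit 1 = false := by decide +kernel
theorem bite : Me.testBit 0 = false ∧ Me.testBit 995 = false ∧ Me.testBit 1 = false ∧ Me.testBit 11 = false := by decide +kernel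
theorem subX : dif MX Me = 0 := by decide +kernel
theorem ca0 : cntErr 11 54 (dif full Ma) = 0 := by decide +kernel
theorem ca1 : cntErr 11 32 (dif R416 Ma) = 0 := by decide +kernel
theorem ca2 : dif R315 Ma = Nat.lor (Nat.pow 2 1) R10 := by decide +kernel
def u16 : List ℕ := [2, 1, 2, 1, 3, 2]
theorem m16 : appW SuzM.nets u16 (Nat.pow 2 1) = Nat.pow 2 16 := by decide +kernel
theorem ne16 : Nat.beq (appW SuzM.nets (u16 ++ [1]) (Nat.pow 2 2)) (appW SuzM.nets ([1] ++ u16) (Nat.pow 2 2)) = false := by decide +kernel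
theorem nefg : Nat.beq (appW SuzM.nets ([7] ++ [6]) (Nat.pow 2 2)) (appW SuzM.nets ([6] ++ [7]) (Nat.pow 2 2)) = false := by decide +kernel
theorem neXe : Nat.beq (appW SuzM.nets (X ++ [5]) (Nat.pow 2 8)) (appW SuzM.nets ([5] ++ X) (Nat.pow 2 8)) = false := by decide +kernel
theorem neca : Nat.beq (appW SuzM.nets [3] (Nat.pow 2 2)) (appW SuzM.nets [1] (Nat.pow 2 2)) = false := by decide +kernel
theorem nea : Nat.beq (appW SuzM.nets [1] (Nat.pow 2 2)) (appW SuzM.nets [] (Nat.pow 2 2)) = false := by decide +kernel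
def u68 : List ℕ := [7, 2, 1, 3, 2, 7, 6, 2]
theorem m68 : appW SuzM.nets u68 (Nat.pow 2 0) = Nat.pow 2 68 := by decide +kernel
theorem m260 : appW SuzM.nets sw (Nat.pow 2 68) = Nat.pow 2 260 := by decide +kernel
theorem x68 : dif (dif (appW SuzM.nets u68 R416) Ma) Me = 0 := by decide +kernel
def RS0 : ℕ := 0x800000000000000000000000000000000000000000000000000000000000000000000000000050000000000100000000000000000000000000000000000000000000000000000000000000000000000000000000000000000000000000000000000000000000000000000000000000000000000000000000040010003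
theorem bS0 : bfs SuzM.nets wsS [4, 5, 6] (Nat.pow 2 0) = RS0 := by decide +kernel
theorem nS0 : cntErr 11 8 RS0 = 0 := by decide +kernel
def RS1 : ℕ := 0x800000000000000000000000000000000000000000000000000000000000000000000000000050000000000100000000000000000000000000000000000000000000000000000000000000000000000000000000000000000000000000000000000000000000000000000000000000000000000000000000000000000
theorem bS1 : bfs SuzM.nets [[6], U] [0, 1] (Nat.pow 2 995) = RS1 := by decide +kernel
theorem nS1 : cntErr 11 4 RS1 = 0 := by decide +kernel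
def RS3 : ℕ := 0x4a0800
theorem bS3 : bfs SuzM.nets [[1], [3]] [0, 1] (Nat.pow 2 11) = RS3 := by decide +kernel
theorem nS3 : cntErr 11 4 RS3 = 0 := by decide +kernel
theorem fS1 : fixErr SuzM.nets [[6], U] [0] = 0 := by decide +kernel
theorem cs0 : dif (dif full Ma) Me = Nat.lor RS0 (Nat.lor (Nat.pow 2 68) (Nat.pow 2 260)) := by decide +kernel
theorem cs1 : cntErr 11 4 (dif (dif R416 Ma) Me) = 0 := by decide +kernel
theorem ce1 : cntErr 11 16 (dif R416 Me) = 0 := by decide +kernel
theorem ce2 : cntErr 11 15 (dif R315 Me) = 0 := by decide +kernel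
theorem ce3 : cntErr 11 4 (dif R160 Me) = 0 := by decide +kernel
def RL0 : ℕ := 0x1000000211406b0eff
theorem bL0 : bfs SuzM.nets wsL [4, 1, 0, 2, 3, 1, 4, 3, 1] (Nat.pow 2 0) = RL0 := by decide +kernel
theorem nL0 : cntErr 11 21 RL0 = 0 := by decide +kernel
theorem kL0 : keepErr SuzM.nets wsL RL0 = 0 := by decide +kernel
theorem bitL : RL0.testBit 0 = true := by decide +kernel
def RL1 : ℕ := 0x80000000000000000000000200000000000000000000000000000000000000000000000000007000000000010000000c00000000000000000000000000000000003c000000040000080000000000000000000000028000000000000000000000000000000000000000000000000000000000000000000000000000000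
theorem bL1 : bfs SuzM.nets [[1], [2], [3], [6]] [3, 1, 0, 2, 1, 0, 2, 1] (Nat.pow 2 995) = RL1 := by decide +kernel
theorem nL1 : cntErr 11 16 RL1 = 0 := by decide +kernel
def RL2 : ℕ := 0x404b0efe
theorem bL2 : bfs SuzM.nets [[1], [2], [3]] [1, 0, 2, 1, 0, 2, 1] (Nat.pow 2 1) = RL2 := by decide +kernel
theorem nL2 : cntErr 11 15 RL2 = 0 := by decide +kernel
theorem fac : fixErr SuzM.nets [[1], [3]] [1] = 0 := by decide +kernel
def RQ0 : ℕ := 0x3
theorem bQ0 : bfs SuzM.nets wsQ [5] (Nat.pow 2 0) = RQ0 := by decide +kernel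
theorem nQ0 : cntErr 11 2 RQ0 = 0 := by decide +kernel
def RQ1 : ℕ := 0x800000000000000000000000000000000000000000000000000000000000000000000000000010000000000000000000000000000000000000000000000000000000000000000000000000000000000000000000000000000000000000000000000000000000000000000000000000000000000000000000000000000
theorem bQ1 : bfs SuzM.nets wsQ [4] (Nat.pow 2 995) = RQ1 := by decide +kernel
theorem nQ1 : cntErr 11 2 RQ1 = 0 := by decide +kernel
def RQ3 : ℕ := 0x13800000000000000000000000000000a000010000000000000000000000000000000000000000000000000000bf000000000000000000000000007000100000000000004000298000000000000000000007200000000000000000110000000000601cc000000000000000800000000000020000000208000000000000000000000000000402000000000000500030c0000000701880000021000211006a0800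
theorem bQ3 : bfs SuzM.nets wsQ [0, 4, 1, 0, 2, 1, 3] (Nat.pow 2 11) = RQ3 := by decide +kernel
theorem nQ3 : cntErr 11 64 RQ3 = 0 := by decide +kernel
def RQ4 : ℕ := 0x40000000000000000000000000000040000000000000001d00000000000000000000000000000000000000004400000000000400000000000000080000000000000001d00000000000000000000000000000000000000000000800028080000000000000000000000004800000000000000000050c000000000000000c200000000000100010000000000000003400000000002048000000c03000000000008000000001c0000030100000000000020000800000008000201000988a401a880100000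
theorem bQ4 : bfs SuzM.nets wsQ [0, 4, 5, 4, 2, 5, 3] (Nat.pow 2 20) = RQ4 := by decide +kernel
theorem nQ4 : cntErr 11 64 RQ4 = 0 := by decide +kernel
theorem kQ0 : keepErr SuzM.nets wsQ RQ0 = 0 := by decide +kernel
theorem kQ1 : keepErr SuzM.nets wsQ RQ1 = 0 := by decide +kernel
theorem kQ3 : keepErr SuzM.nets wsQ RQ3 = 0 := by decide +kernel
theorem kQ4 : keepErr SuzM.nets wsQ RQ4 = 0 := by decide +kernel
theorem bitQ2 : RQ0.testBit 0 = true ∧ RQ1.testBit 995 = true ∧ RQ3.testBit 11 = true ∧ RQ4.testBit 20 = true ∧ (appW SuzM.nets [5] RQ4).testBit 20 = false := by decide +kernel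
theorem cq3 : cntErr 11 32 (Nat.land R160 RQ3) = 0 := by decide +kernel
def RQt : ℕ := 0x3
theorem bQt : bfs SuzM.nets [[6, 7, 6, 3]] [0] (Nat.pow 2 0) = RQt := by decide +kernel
theorem nQt : cntErr 11 2 RQt = 0 := by decide +kernel
theorem fQt : fixErr SuzM.nets [[6, 7, 6, 3]] [11] = 0 := by decide +kernel
def u29 : List ℕ := [7, 2, 3, 4, 6, 2]
theorem m29 : appW SuzM.nets u29 (Nat.pow 2 0) = Nat.pow 2 29 := by decide +kernel
theorem i29 : (appW SuzM.nets u29 R416).testBit 11 = false := by decide +kernel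
def u51 : List ℕ := [7, 2, 3, 4, 5, 6, 2]
theorem m51 : appW SuzM.nets u51 (Nat.pow 2 0) = Nat.pow 2 51 := by decide +kernel
theorem i51 : (appW SuzM.nets u51 R416).testBit 11 = false := by decide +kernel
def u456 : List ℕ := [7, 2, 3, 4, 3, 2, 5, 4, 3, 4, 7, 2]
theorem m456 : appW SuzM.nets u456 (Nat.pow 2 0) = Nat.pow 2 456 := by decide +kernel
theorem i456 : (appW SuzM.nets u456 R416).testBit 11 = true := by decide +kernel
theorem cl : Nat.land (dif (dif (dif R160 Mt) (appW SuzM.nets u29 R416)) (appW SuzM.nets u51 R416)) (appW SuzM.nets u456 R416) = Nat.lor (Nat.pow 2 11) (Nat.pow 2 19) := by decide +kernel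
theorem m19 : appW SuzM.nets [1] (Nat.pow 2 11) = Nat.pow 2 19 := by decide +kernel
theorem bit54 : R54.testBit 995 = true ∧ R54.testBit 1 = true ∧ R54.testBit 304 = true ∧ R54.testBit 29 = true ∧ R54.testBit 51 = true ∧ R54.testBit 456 = true := by decide +kernel
def pa : List (List ℕ × List ℕ) := commP [1] (ws0 ++ wsQ ++ wsS)
theorem pa_0 : eqsAt SuzM.nets 1782 11 pa 0 = 0 := by decide +kernel
theorem pa_1 : eqsAt SuzM.nets 1782 11 pa 1 = 0 := by decide +kernel
theorem pa_2 : eqsAt SuzM.nets 1782 11 pa 2 = 0 := by decide +kernel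
theorem pa_3 : eqsAt SuzM.nets 1782 11 pa 3 = 0 := by decide +kernel
theorem pa_4 : eqsAt SuzM.nets 1782 11 pa 4 = 0 := by decide +kernel
theorem pa_5 : eqsAt SuzM.nets 1782 11 pa 5 = 0 := by decide +kernel
theorem pa_6 : eqsAt SuzM.nets 1782 11 pa 6 = 0 := by decide +kernel
theorem pa_7 : eqsAt SuzM.nets 1782 11 pa 7 = 0 := by decide +kernel
theorem pa_8 : eqsAt SuzM.nets 1782 11 pa 8 = 0 := by decide +kernel
theorem pa_9 : eqsAt SuzM.nets 1782 11 pa 9 = 0 := by decide +kernel
theorem pa_10 : eqsAt SuzM.nets 1782 11 pa 10 = 0 := by decide +kernel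
theorem pa_ok : ∀ p ∈ pa, wv el p.1 = wv el p.2 := M.wv_eq inj (b := 11) (by decide) (blocks_cons (blocks_cons (blocks_cons (blocks_cons (blocks_cons (blocks_cons (blocks_cons (blocks_cons (blocks_cons (blocks_cons (blocks_cons (blocks_nil _) pa_0) pa_1) pa_2) pa_3) pa_4) pa_5) pa_6) pa_7) pa_8) pa_9) pa_10)
def pe : List (List ℕ × List ℕ) := commP [5] (wsL ++ wsS)
theorem pe_0 : eqsAt SuzM.nets 1782 11 pe 0 = 0 := by decide +kernel
theorem pe_1 : eqsAt SuzM.nets 1782 11 pe 1 = 0 := by decide +kernel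
theorem pe_2 : eqsAt SuzM.nets 1782 11 pe 2 = 0 := by decide +kernel
theorem pe_3 : eqsAt SuzM.nets 1782 11 pe 3 = 0 := by decide +kernel
theorem pe_4 : eqsAt SuzM.nets 1782 11 pe 4 = 0 := by decide +kernel
theorem pe_5 : eqsAt SuzM.nets 1782 11 pe 5 = 0 := by decide +kernel
theorem pe_6 : eqsAt SuzM.nets 1782 11 pe 6 = 0 := by decide +kernel
theorem pe_7 : eqsAt SuzM.nets 1782 11 pe 7 = 0 := by decide +kernel
theorem pe_8 : eqsAt SuzM.nets 1782 11 pe 8 = 0 := by decide +kernel
theorem pe_9 : eqsAt SuzM.nets 1782 11 pe 9 = 0 := by decide +kernel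
theorem pe_10 : eqsAt SuzM.nets 1782 11 pe 10 = 0 := by decide +kernel
theorem pe_ok : ∀ p ∈ pe, wv el p.1 = wv el p.2 := M.wv_eq inj (b := 11) (by decide) (blocks_cons (blocks_cons (blocks_cons (blocks_cons (blocks_cons (blocks_cons (blocks_cons (blocks_cons (blocks_cons (blocks_cons (blocks_cons (blocks_nil _) pe_0) pe_1) pe_2) pe_3) pe_4) pe_5) pe_6) pe_7) pe_8) pe_9) pe_10)
def pX : List (List ℕ × List ℕ) := commP X wsL
theorem pX_0 : eqsAt SuzM.nets 1782 11 pX 0 = 0 := by decide +kernel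
theorem pX_1 : eqsAt SuzM.nets 1782 11 pX 1 = 0 := by decide +kernel
theorem pX_2 : eqsAt SuzM.nets 1782 11 pX 2 = 0 := by decide +kernel
theorem pX_3 : eqsAt SuzM.nets 1782 11 pX 3 = 0 := by decide +kernel
theorem pX_4 : eqsAt SuzM.nets 1782 11 pX 4 = 0 := by decide +kernel
theorem pX_5 : eqsAt SuzM.nets 1782 11 pX 5 = 0 := by decide +kernel
theorem pX_6 : eqsAt SuzM.nets 1782 11 pX 6 = 0 := by decide +kernel
theorem pX_7 : eqsAt SuzM.nets 1782 11 pX 7 = 0 := by decide +kernel
theorem pX_8 : eqsAt SuzM.nets 1782 11 pX 8 = 0 := by decide +kernel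
theorem pX_9 : eqsAt SuzM.nets 1782 11 pX 9 = 0 := by decide +kernel
theorem pX_10 : eqsAt SuzM.nets 1782 11 pX 10 = 0 := by decide +kernel
theorem pX_ok : ∀ p ∈ pX, wv el p.1 = wv el p.2 := M.wv_eq inj (b := 11) (by decide) (blocks_cons (blocks_cons (blocks_cons (blocks_cons (blocks_cons (blocks_cons (blocks_cons (blocks_cons (blocks_cons (blocks_cons (blocks_cons (blocks_nil _) pX_0) pX_1) pX_2) pX_3) pX_4) pX_5) pX_6) pX_7) pX_8) pX_9) pX_10)
def pf : List (List ℕ × List ℕ) := commP [6] ws1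
theorem pf_0 : eqsAt SuzM.nets 1782 11 pf 0 = 0 := by decide +kernel
theorem pf_1 : eqsAt SuzM.nets 1782 11 pf 1 = 0 := by decide +kernel
theorem pf_2 : eqsAt SuzM.nets 1782 11 pf 2 = 0 := by decide +kernel
theorem pf_3 : eqsAt SuzM.nets 1782 11 pf 3 = 0 := by decide +kernel
theorem pf_4 : eqsAt SuzM.nets 1782 11 pf 4 = 0 := by decide +kernel
theorem pf_5 : eqsAt SuzM.nets 1782 11 pf 5 = 0 := by decide +kernel
theorem pf_6 : eqsAt SuzM.nets 1782 11 pf 6 = 0 := by decide +kernel
theorem pf_7 : eqsAt SuzM.nets 1782 11 pf 7 = 0 := by decide +kernel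
theorem pf_8 : eqsAt SuzM.nets 1782 11 pf 8 = 0 := by decide +kernel
theorem pf_9 : eqsAt SuzM.nets 1782 11 pf 9 = 0 := by decide +kernel
theorem pf_10 : eqsAt SuzM.nets 1782 11 pf 10 = 0 := by decide +kernel
theorem pf_ok : ∀ p ∈ pf, wv el p.1 = wv el p.2 := M.wv_eq inj (b := 11) (by decide) (blocks_cons (blocks_cons (blocks_cons (blocks_cons (blocks_cons (blocks_cons (blocks_cons (blocks_cons (blocks_cons (blocks_cons (blocks_cons (blocks_nil _) pf_0) pf_1) pf_2) pf_3) pf_4) pf_5) pf_6) pf_7) pf_8) pf_9) pf_10)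
def pr : List (List ℕ × List ℕ) := [(X ++ X ++ X, []), (X ++ [5] ++ X ++ [5] ++ X ++ [5], []), ([2, 3, 1, 2, 1, 2] ++ [1], [3] ++ [2, 3, 1, 2, 1, 2]), ([7, 6, 7, 6], [1])]
theorem pr_0 : eqsAt SuzM.nets 1782 11 pr 0 = 0 := by decide +kernel
theorem pr_1 : eqsAt SuzM.nets 1782 11 pr 1 = 0 := by decide +kernel
theorem pr_2 : eqsAt SuzM.nets 1782 11 pr 2 = 0 := by decide +kernel
theorem pr_3 : eqsAt SuzM.nets 1782 11 pr 3 = 0 := by decide +kernel
theorem pr_4 : eqsAt SuzM.nets 1782 11 pr 4 = 0 := by decide +kernel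
theorem pr_5 : eqsAt SuzM.nets 1782 11 pr 5 = 0 := by decide +kernel
theorem pr_6 : eqsAt SuzM.nets 1782 11 pr 6 = 0 := by decide +kernel
theorem pr_7 : eqsAt SuzM.nets 1782 11 pr 7 = 0 := by decide +kernel
theorem pr_8 : eqsAt SuzM.nets 1782 11 pr 8 = 0 := by decide +kernel
theorem pr_9 : eqsAt SuzM.nets 1782 11 pr 9 = 0 := by decide +kernel
theorem pr_10 : eqsAt SuzM.nets 1782 11 pr 10 = 0 := by decide +kernel
theorem pr_ok : ∀ p ∈ pr, wv el p.1 = wv el p.2 := M.wv_eq inj (b := 11) (by decide) (blocks_cons (blocks_cons (blocks_cons (blocks_cons (blocks_cons (blocks_cons (blocks_cons (blocks_cons (blocks_cons (blocks_cons (blocks_cons (blocks_nil _) pr_0) pr_1) pr_2) pr_3) pr_4) pr_5) pr_6) pr_7) pr_8) pr_9) pr_10)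
def nd : List (List ℕ × List ℕ × List ℕ) := [([3], [3], [0]), ([3], [4, 3, 4], [0, 1, 0]), ([3], [5, 4, 3, 4, 5], [0, 2, 0]), ([3], q4, [0, 3, 0]), ([3], [6], [4]), ([3], [7], [5]), ([4], [3], [1]), ([4], [4, 3, 4], [0]), ([4], [5, 4, 3, 4, 5], [2]), ([4], q4, [0, 1, 2, 3]), ([4], [6], [4]), ([4], [7], [5]), ([5], [3], [0]), ([5], [4, 3, 4], [2]), ([5], [5, 4, 3, 4, 5], [1]), ([5], q4, [0, 1, 2, 3]), ([5], [6], [4]), ([5], [7], [5]), (X, [3], [0]), (X, [4, 3, 4], [1]), (X, [5, 4, 3, 4, 5], [3]), (X, q4, [0, 1, 2, 3]), (X, [6], [4]), (X, [7], [5]), ([6], [3], [0]), ([6], [4, 3, 4], [1]), ([6], [5, 4, 3, 4, 5], [2]), ([6], q4, [3]), ([6], [6], [4]), ([6], [7], [4, 5, 4]), (U, [3], [0]), (U, [4, 3, 4], [0, 1, 0, 4]), (U, [5, 4, 3, 4, 5], [0, 2, 0, 4]), (U, q4, [0, 3, 0, 4]), (U, [6], [4]), (U, [7], [0, 4, 5, 4]), ([7], [3], [0]), ([7], [4, 3, 4], [1]), ([7], [5, 4, 3, 4, 5], [2]), ([7], q4, [3]), ([7], [6], [5, 4, 5]), ([7], [7], [5]), (V, [3], [0]), (V, [4, 3, 4], [0, 1, 0, 5]),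 (V, [5, 4, 3, 4, 5], [0, 2, 0, 5]), (V, q4, [0, 3, 0, 5]), (V, [6], [0, 5, 4, 5]), (V, [7], [5])]
def pn : List (List ℕ × List ℕ) := normP wsQ nd
theorem pn_0 : eqsAt SuzM.nets 1782 11 pn 0 = 0 := by decide +kernel
theorem pn_1 : eqsAt SuzM.nets 1782 11 pn 1 = 0 := by decide +kernel
theorem pn_2 : eqsAt SuzM.nets 1782 11 pn 2 = 0 := by decide +kernel
theorem pn_3 : eqsAt SuzM.nets 1782 11 pn 3 = 0 := by decide +kernel
theorem pn_4 : eqsAt SuzM.nets 1782 11 pn 4 = 0 := by decide +kernel
theorem pn_5 : eqsAt SuzM.nets 1782 11 pn 5 = 0 := by decide +kernel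
theorem pn_6 : eqsAt SuzM.nets 1782 11 pn 6 = 0 := by decide +kernel
theorem pn_7 : eqsAt SuzM.nets 1782 11 pn 7 = 0 := by decide +kernel
theorem pn_8 : eqsAt SuzM.nets 1782 11 pn 8 = 0 := by decide +kernel
theorem pn_9 : eqsAt SuzM.nets 1782 11 pn 9 = 0 := by decide +kernel
theorem pn_10 : eqsAt SuzM.nets 1782 11 pn 10 = 0 := by decide +kernel
theorem pn_ok : ∀ p ∈ pn, wv el p.1 = wv el p.2 := M.wv_eq inj (b := 11) (by decide) (blocks_cons (blocks_cons (blocks_cons (blocks_cons (blocks_cons (blocks_cons (blocks_cons (blocks_cons (blocks_cons (blocks_cons (blocks_cons (blocks_nil _) pn_0) pn_1) pn_2) pn_3) pn_4) pn_5) pn_6) pn_7) pn_8) pn_9) pn_10)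
def pq : List (List ℕ × List ℕ) := [([3] ++ [3], [3] ++ [3]), ([3] ++ [4, 3, 4], [1] ++ [4, 3, 4] ++ [3]), ([3] ++ [5, 4, 3, 4, 5], [1] ++ [5, 4, 3, 4, 5] ++ [3]), ([3] ++ q4, [1] ++ q4 ++ [3]), ([3] ++ [6], [6] ++ [3]), ([3] ++ [7], [7] ++ [3]), ([4, 3, 4] ++ [3], [1] ++ [3] ++ [4, 3, 4]), ([4, 3, 4] ++ [4, 3, 4], [4, 3, 4] ++ [4, 3, 4]), ([4, 3, 4] ++ [5, 4, 3, 4, 5], [1] ++ [5, 4, 3, 4, 5] ++ [4, 3, 4]), ([4, 3, 4] ++ q4, [1] ++ q4 ++ [4, 3, 4]), ([4, 3, 4] ++ [6], [6] ++ [4, 3, 4]), ([4, 3, 4] ++ [7], [7] ++ [4, 3, 4]), ([5, 4, 3, 4, 5] ++ [3], [1] ++ [3] ++ [5, 4, 3, 4, 5]), ([5, 4, 3, 4, 5] ++ [4, 3, 4], [1] ++ [4, 3, 4] ++ [5, 4, 3, 4, 5]), ([5, 4, 3, 4, 5] ++ [5, 4, 3, 4, 5], [5, 4, 3, 4, 5] ++ [5, 4, 3, 4, 5]), ([5, 4, 3, 4, 5] ++ q4, [1] ++ q4 ++ [5, 4, 3, 4, 5]), ([5, 4, 3, 4, 5] ++ [6], [6] ++ [5, 4, 3, 4, 5]), ([5, 4, 3, 4, 5] ++ [7], [7] ++ [5, 4, 3, 4, 5]), (q4 ++ [3], [1] ++ [3] ++ q4), (q4 ++ [4, 3, 4], [1] ++ [4, 3, 4] ++ q4), (q4 ++ [5, 4, 3, 4, 5], [1] ++ [5,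 4, 3, 4, 5] ++ q4), (q4 ++ q4, q4 ++ q4), (q4 ++ [6], [6] ++ q4), (q4 ++ [7], [7] ++ q4), ([6] ++ [3], [3] ++ [6]), ([6] ++ [4, 3, 4], [4, 3, 4] ++ [6]), ([6] ++ [5, 4, 3, 4, 5], [5, 4, 3, 4, 5] ++ [6]), ([6] ++ q4, q4 ++ [6]), ([6] ++ [6], [6] ++ [6]), ([6] ++ [7], [1] ++ [7] ++ [6]), ([7] ++ [3], [3] ++ [7]), ([7] ++ [4, 3, 4], [4, 3, 4] ++ [7]), ([7] ++ [5, 4, 3, 4, 5], [5, 4, 3, 4, 5] ++ [7]), ([7] ++ q4, q4 ++ [7]), ([7] ++ [6], [1] ++ [6] ++ [7]), ([7] ++ [7], [7] ++ [7]), ([3] ++ [3], []), ([4, 3, 4] ++ [4, 3, 4], []), ([5, 4, 3, 4, 5] ++ [5, 4, 3, 4, 5], []), (q4 ++ q4, []), ([6] ++ [6], []), ([7] ++ [7], [])]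
theorem pq_0 : eqsAt SuzM.nets 1782 11 pq 0 = 0 := by decide +kernel
theorem pq_1 : eqsAt SuzM.nets 1782 11 pq 1 = 0 := by decide +kernel
theorem pq_2 : eqsAt SuzM.nets 1782 11 pq 2 = 0 := by decide +kernel
theorem pq_3 : eqsAt SuzM.nets 1782 11 pq 3 = 0 := by decide +kernel
theorem pq_4 : eqsAt SuzM.nets 1782 11 pq 4 = 0 := by decide +kernel
theorem pq_5 : eqsAt SuzM.nets 1782 11 pq 5 = 0 := by decide +kernel
theorem pq_6 : eqsAt SuzM.nets 1782 11 pq 6 = 0 := by decide +kernel
theorem pq_7 : eqsAt SuzM.nets 1782 11 pq 7 = 0 := by decide +kernel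
theorem pq_8 : eqsAt SuzM.nets 1782 11 pq 8 = 0 := by decide +kernel
theorem pq_9 : eqsAt SuzM.nets 1782 11 pq 9 = 0 := by decide +kernel
theorem pq_10 : eqsAt SuzM.nets 1782 11 pq 10 = 0 := by decide +kernel
theorem pq_ok : ∀ p ∈ pq, wv el p.1 = wv el p.2 := M.wv_eq inj (b := 11) (by decide) (blocks_cons (blocks_cons (blocks_cons (blocks_cons (blocks_cons (blocks_cons (blocks_cons (blocks_cons (blocks_cons (blocks_cons (blocks_cons (blocks_nil _) pq_0) pq_1) pq_2) pq_3) pq_4) pq_5) pq_6) pq_7) pq_8) pq_9) pq_10)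

end Cfsg.Agent.H7.SuzD
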